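import Cfsg.Agent.X9.Wc

/-! The case that `z` is fused inside `Q`. -/

set_option autoImplicit false
open Equiv Subgroup

namespace X9
variable {G : Type*} [Group G]

theorem St.ne0 {z a : G} (S : St z) (T : St a) (ha : a ∈ S.Q) (n : a ≠ z) : S.ρ a ≠ 0 :=
  fun e => ((S.rk ha).1 e).elim T.z1 n

theorem St.perp {z a b : G} (S : St z) (ha : a ∈ S.Q) (hb : b ∈ S.Q)
    (h : ∀ q ∈ S.Q, Commute q a → Commute q b) : S.ρ b = 0 ∨ S.ρ b = S.ρ a :=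
  perp2 fun y hy => by
    obtain ⟨q, hq, rfl⟩ := S.rs y
    exact (S.cm hb hq).1 (h q hq ((S.cm ha hq).2 hy).symm).symm

theorem f1 [Finite G] {z a : G} (S : St z) (T : St a) (ha : a ∈ S.Q) : z ∈ T.Q := by
  by_contra hz
  have hc : ∀ x ∈ S.Q ⊓ centralizer {a}, Commute x a := fun _ hx => mcs.1 hx.2
  have c1 := S.card_ge le_rfl S.zQ Finset.univ fun v _ => S.rs v
  have c2 := card_half (Y := S.Q) (t := a) (fun q hq => S.QM hq) fun q hq => S.cm' hq ha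
  have c3 := T.card_im hc
  have c4 := le32 _ (T.im_four hc fun x hx => S.four hx.1)
  have c5 := S.card_le (D := S.Q ⊓ centralizer {a} ⊓ T.Q) (inf_le_left.trans inf_le_left)
    (fun h => hz h.2) [0, S.ρ a] fun b hb => by
      have := S.perp ha hb.1.1 fun q hq c => by
        by_contra hn
        have := T.nq c hb.2
        rw [S.ncm hq hb.1.1 hn] at this
        exact hz ((T.Q.mul_mem_cancel_left hb.2).1 this)
      simpa using this
  have e : (Finset.univ : Finset V).card = 256 := by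
    rw [Finset.card_univ, ← Nat.card_eq_fintype_card, cardV]
  have e' : [0, S.ρ a].length = 2 := rfl
  rw [e] at c1
  nlinarith

theorem rk1_conj {z u v : G} (S : St z) (hu : u ∈ S.Q) (hv : v ∈ S.Q) (ru : rk1 (S.ρ u))
    (rv : rk1 (S.ρ v)) : IsConj u v := by
  obtain ⟨g, hg, e⟩ := ru.ev
  obtain ⟨g', hg', e'⟩ := rv.ev
  obtain ⟨m, hm, em⟩ := S.ps (hg'.mul hg.inv)
  have c : IsConj u (m * u * m⁻¹) := isConj_iff.2 ⟨m, rfl⟩
  rcases S.eqr hv (S.nq hm hu) (by rw [S.rc hm hu, em, ← e, mul_smul, inv_smul_smul, e'])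
    with k | k
  · exact k ▸ c
  · obtain ⟨q, -, k'⟩ := S.cjz hv rv.1
    exact c.trans (k ▸ (isConj_iff.2 ⟨q, k'⟩).symm)

section
variable {z a : G} {S : St z} {T : St a} (ha : a ∈ S.Q) (n : a ≠ z)
include ha n

omit ha in
theorem both {x y : G} (h : y = x ∨ y = x * z) (h' : y = x ∨ y = x * a) : y = x := by
  rcases h with h | h
  · exact h
  · exact h'.resolve_right fun e => n (mul_left_cancel (e.symm.trans h))

omit n in
theorem b_sq {b : G} (hb : b ∈ T.Q) (bz : Commute b z) : S.π b * S.π b = 1 := by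
  rw [← S.pm bz bz]
  rcases T.sq' hb with e | e <;> rw [e]
  · exact S.p1
  · exact S.pQ ha

omit n in
theorem b_fix {b : G} (hb : b ∈ T.Q) (bz : Commute b z) : S.π b • S.ρ a = S.ρ a :=
  S.fix_of_comm bz ha (T.QM hb).symm

omit n in
theorem b_nrm {b m : G} (hb : b ∈ T.Q) (bz : Commute b z) (mz : Commute m z) (ma : Commute m a) :
    S.π b * (S.π m * S.π b * (S.π m)⁻¹) * (S.π b * (S.π m * S.π b * (S.π m)⁻¹)) = 1 := by
  have c := (mz.mul_left bz).mul_left mz.inv_left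
  have := b_sq (S := S) ha (mul_mem hb (T.nq ma hb)) (bz.mul_left c)
  rwa [S.pm bz c, S.pc mz bz] at this

theorem w_cen (hz : z ∈ T.Q) {w : G} (w1 : w ∈ S.Q) (w2 : w ∈ T.Q)
    (h : ∀ b ∈ T.Q, Commute b z → S.π b • S.ρ w = S.ρ w) : S.ρ w = 0 ∨ S.ρ w = S.ρ a := by
  have := T.perp hz w2 fun b hb bz => mul_inv_eq_iff_eq_mul.1 (both n
    (S.eqr w1 (S.nq bz w1) (by rw [S.rc bz w1, h b hb bz])) (T.cm' hb w2))
  rcases this with e | e
  · rcases (T.rk w2).1 e with rfl | rfl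
    · exact Or.inl S.r1
    · exact Or.inr rfl
  · rcases T.eqr hz w2 e.symm with rfl | rfl
    · exact Or.inl S.rz
    · right; rw [S.rm S.zQ ha, S.rz, zero_add]

omit ha in
theorem b_out (hz : z ∈ T.Q) : ∃ b ∈ T.Q, Commute b z ∧ b ∉ S.Q := by
  by_contra hc
  push Not at hc
  obtain ⟨x, x0, x1, x2⟩ := k_na (T.ρ z)
  obtain ⟨b, hb, rfl⟩ := T.rs x
  have bz := ((T.cm hz hb).2 x0).symm
  exact (T.perp hz hb fun q hq qz => mul_inv_eq_iff_eq_mul.1 (both n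
    (S.cm' (hc q hq qz) (hc b hb bz)) (T.cm' hq hb))).elim x1 x2

theorem f3' (hz : z ∈ T.Q) (h2 : S.ρ a = r2) : False := by
  obtain ⟨m, mz, ma, em, -⟩ := S.lifta ha (S.ne0 T ha n) k_ω.1 (by rw [h2, k_ω.2])
  have key : ∀ b ∈ T.Q, Commute b z → (∀ y : V, y.1 ∈ LZ → y.2 ∈ LZ → S.π b • y = y) ∧
      (S.π b = 1 ∨ ∃ x, bf r2 x = false ∧ S.π b • x + x ≠ 0 ∧ S.π b • x + x ≠ r2 ∧
        (S.π b • x + x).1 ∈ LZ ∧ (S.π b • x + x).2 ∈ LZ) := fun b hb bz => by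
    have := k_c3 _ (mem_invG (b_sq (S := S) ha hb bz))
    simp only [av_cg, mg_cg, cg_og] at this
    exact this (h2 ▸ b_fix ha hb bz) (em ▸ b_nrm ha hb bz mz ma)
  obtain ⟨b, hb, bz, bQ⟩ := b_out (S := S) n hz
  obtain ⟨x, x0, x1, x2, x3, x4⟩ := (key b hb bz).2.resolve_left fun e => bQ ((S.pk bz).1 e)
  obtain ⟨q, hq, rfl⟩ := S.rs x
  have qa := ((S.cm ha hq).2 (h2 ▸ x0)).symm
  have w1 := mul_mem (S.nq bz hq) (inv_mem hq)
  have w2 : b * q * b⁻¹ * q⁻¹ ∈ T.Q := by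
    rw [show b * q * b⁻¹ * q⁻¹ = b * (q * b⁻¹ * q⁻¹) by group]
    exact mul_mem hb (T.nq qa (inv_mem hb))
  have e : S.ρ (b * q * b⁻¹ * q⁻¹) = S.π b • S.ρ q + S.ρ q := by
    rw [S.rm (S.nq bz hq) (inv_mem hq), S.rc bz hq, S.rinv hq]
  have := w_cen ha n hz w1 w2 fun c hc cz => (key c hc cz).1 _ (e ▸ x3) (e ▸ x4)
  rw [e, h2] at this
  exact this.elim x1 x2

theorem f3 [Finite G] (T : St a) : rk1 (S.ρ a) := by
  rcases rk2 ((S.sq ha).1 T.z2) with e | e | ⟨g, -, e⟩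
  · exact absurd e (S.ne0 T ha n)
  · exact e
  · exact (f3' (S := S.tw g⁻¹) (T := T) ha n (f1 S T ha) (by
      show g⁻¹ • S.ρ a = _
      rw [← e, inv_smul_smul])).elim
end

variable [Finite G] {z0 : G} (hS : ∀ t, IsConj z0 t → Nonempty (St t))
include hS

theorem f6 {z a t : G} (hz : IsConj z0 z) (ca : IsConj z0 a) (ct : IsConj z0 t) (S : St z)
    (T : St a) (ha : a ∈ S.Q) (h1 : S.ρ a = r1) (hT : t ∈ T.Q) (tz : Commute t z)
    (tQ : t ∉ S.Q) (hV : S.π t ∈ LV) (nc : ¬ IsConj t (z * t)) : False := by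
  obtain ⟨U⟩ := hS t ct
  have h : Pr S U := ⟨tz, tQ, fun e => tQ (f1 U S e)⟩
  have aU : a ∈ U.Q := f1 T U hT
  have na : a ≠ t := fun e => tQ (e ▸ ha)
  obtain ⟨m4, v1, f16, hk⟩ := k_c6 _ hV
  obtain ⟨-, -, -, θ3, θ1, θa, θb⟩ := k_ρ
  obtain ⟨x, xz, xt, ex, x3⟩ := S.lift3 U.z2 tz m4 θ3 (Prod.ext (by simp [v1]) (by simp [θ]))
  have nD : ∀ d ∈ S.Q ⊓ U.Q, x * d * x⁻¹ ∈ S.Q ⊓ U.Q := fun d hd => ⟨S.nq xz hd.1, U.nq xt hd.2⟩
  have rD : ∀ d ∈ S.Q ⊓ U.Q, S.ρ (x * d * x⁻¹) = θ • S.ρ d := fun d hd => by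
    rw [S.rc xz hd.1, ex]
  have aD : a ∈ S.Q ⊓ U.Q := ⟨ha, aU⟩
  have ra := rD a aD
  rw [h1, θa] at ra
  have inj : ∀ d ∈ S.Q ⊓ U.Q, ∀ d' ∈ S.Q ⊓ U.Q, S.ρ d = S.ρ d' → d' = d := fun d hd d' hd' e =>
    (S.eqr hd.1 hd'.1 e).resolve_right fun e =>
      h.zQ ((U.Q.mul_mem_cancel_left hd.2).1 (e ▸ hd'.2))
  have aa := mul_mem aD (nD a aD)
  have raa : S.ρ (a * (x * a * x⁻¹)) = r1 + r1' := by rw [S.rm ha (nD a aD).1, h1, ra]
  have F4D : ∀ w ∈ F4, ∃ d ∈ S.Q ⊓ U.Q, S.ρ d = w := fun w hw => by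
    simp only [F4, List.mem_cons, List.not_mem_nil, or_false] at hw
    rcases hw with rfl | rfl | rfl | rfl
    exacts [⟨1, one_mem _, S.r1⟩, ⟨a, aD, h1⟩, ⟨_, nD a aD, ra⟩, ⟨_, aa, raa⟩]
  have dF : ∀ d ∈ S.Q ⊓ U.Q, S.ρ d ∈ F4 := fun d hd => by
    refine (hk _ (S.fix_of_comm tz hd.1 (U.QM hd.2))).resolve_right ?_
    rintro ⟨x', hx', w, hw, rk, c, c3, cf, cn⟩
    obtain ⟨d1, hd1, rfl⟩ : ∃ d1 ∈ S.Q ⊓ U.Q, S.ρ d1 = x' := by
      simp only [List.mem_cons, List.not_mem_nil, or_false] at hx'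
      rcases hx' with rfl | rfl | rfl
      exacts [⟨d, hd, rfl⟩, ⟨_, nD d hd, rD d hd⟩,
        ⟨_, nD _ (nD d hd), by rw [rD _ (nD d hd), rD d hd]⟩]
    obtain ⟨d2, hd2, rfl⟩ := F4D w hw
    rw [← S.rm hd1.1 hd2.1] at rk cf
    have hb := mul_mem hd1 hd2
    generalize d1 * d2 = b at rk cf hb
    obtain ⟨B⟩ := hS b (ca.trans (rk1_conj S ha hb.1 (h1 ▸ k_rk1' _ _ _ (by decide)) rk))
    obtain ⟨m, mz, mb, rfl, -⟩ := S.lifta hb.1 rk.1 (k_T3 c c3).1 cf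
    exact cn (b_nrm hb.1 (f1 U B hb.2) tz mz mb)
  have d4 : Nat.card (S.Q ⊓ U.Q : Subgroup G) ≤ 4 :=
    S.card_le inf_le_left (fun e => h.zQ e.2) F4 dF
  have b1 : ∀ b ∈ U.Q, Commute b z → (S.π b).1 = 1 := fun b hb bz => by
    have k : ∀ d ∈ S.Q ⊓ U.Q, S.π b • S.ρ d = S.ρ d := fun d hd =>
      S.fix_of_comm bz hd.1 (h.symm.cd hb bz ⟨hd.2, hd.1⟩).symm
    exact fst_one (h1 ▸ k a aD) (ra ▸ k _ (nD a aD))
  have l0 : ∀ q ∈ U.Q, U.π z • U.ρ q = U.ρ q → Commute q z := fun q hq f => by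
    rcases U.fix_cases tz.symm hq f with e | e
    · exact mul_inv_eq_iff_eq_mul.1 e
    · exact absurd ((ct.symm.trans hz).trans (isConj_iff.2 ⟨q, e⟩)) nc
  have c16 := S.card_fix tz
  rcases (types (U.p2 S.z2 tz.symm) h.symm.p1).2 with ⟨g, e⟩ | ⟨m, e | e | ⟨-, -, g, r, hr, e⟩⟩
  · have c1 := U.card_fix2 tz.symm l0
    have c2 := k_repT.trans (Fx_conj rT g)
    have c3 := h.symm.cardB
    set A := S.im (U.Q ⊓ centralizer {z}) fun _ hx => mcs.1 hx.2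
    have a4 : ∀ a ∈ A, a * a * (a * a) = 1 := S.im_four _ fun x hx => U.four hx.1
    have c4 := (k2 A a4).2 fun y hy y2 => by
      obtain ⟨b, hb, rfl⟩ := S.mem_im.1 hy
      exact Prod.ext (b1 b hb.1 (mcs.1 hb.2)) y2
    have c5 := sn16 A a4
    rw [inf_comm U.Q S.Q] at c3
    rw [e] at c2
    nlinarith
  · have := U.s_excl S tz.symm m e
    rw [inf_comm U.Q S.Q] at this
    omega
  · obtain ⟨q, -, e⟩ := U.notA S.z2 tz.symm e
    exact nc ((ct.symm.trans hz).trans (isConj_iff.2 ⟨q, e⟩))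
  · let U' := U.tw g⁻¹
    have eU : U'.π z = r := by
      show g⁻¹ * U.π z * g⁻¹⁻¹ = _
      rw [← e]; group
    have l1 : ∀ q ∈ U.Q, U'.π z • U'.ρ q = U'.ρ q → Commute q z := fun q hq f => l0 q hq (by
      have : (g⁻¹ * U.π z * g⁻¹⁻¹) • g⁻¹ • U.ρ q = g⁻¹ • U.ρ q := f
      rw [conj_smul] at this
      exact MulAction.injective _ this)
    have p3 : U'.π x * (U'.π x * U'.π x) = 1 := by
      rw [← U'.pm xt xt, ← U'.pm xt (xt.mul_left xt), x3, U'.p1]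
    have p1 : U'.π x ≠ 1 := fun e => θ1 (by
      have := U'.four ((U'.pk xt).1 e)
      rw [mul_assoc, x3, mul_one] at this
      rw [← ex, this, S.p1])
    have ra' : U'.ρ (x * a * x⁻¹) = U'.π x • U'.ρ a := U'.rc xt aU
    have := k_c7 r hr _ (mem_cubG p3)
    simp only [ne_eq, cg_og, mg_cg, cg_inj, av_cg] at this
    obtain ⟨y, y0, y1, y2, y3, y4⟩ := this p1 (by rw [← eU, ← U'.pm xt tz.symm, xz.eq,
        U'.pm tz.symm xt]) (U'.ρ a) (f3 aU na T)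
      (eU ▸ U'.fix_of_comm tz.symm aU (S.QM ha)) (by
        rw [← ra', ← U'.rc xt (nD a aD).2, ← U'.rm aU (nD a aD).2,
          inj _ aa _ (nD _ (nD a aD)) (by rw [rD _ (nD a aD), ra, θb, raa]), V2])
    obtain ⟨b, hb, rfl⟩ := U'.rs y
    have bz := l1 b hb (eU ▸ y0)
    have c := (xz.mul_left bz).mul_left xz.inv_left
    have hd : x * b * x⁻¹ * b⁻¹ ∈ S.Q ⊓ U.Q := ⟨(S.pk (c.mul_left bz.inv_left)).1 (by
      rw [S.pm c bz.inv_left, S.pc xz bz, S.pinv bz, ex]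
      exact Prod.ext (by simp [b1 b hb bz]) (by simp [θ])), U.Q.mul_mem (U.nq xt hb) (U.Q.inv_mem hb)⟩
    have e1 : U'.ρ (x * b * x⁻¹ * b⁻¹) = U'.π x • U'.ρ b + U'.ρ b := by
      rw [U'.rm (U'.nq xt hb) (inv_mem hb), U'.rc xt hb, U'.rinv hb]
    rw [← e1] at y1 y2 y3 y4
    have := dF _ hd
    simp only [F4, List.mem_cons, List.not_mem_nil, or_false] at this
    rcases this with e | e | e | e
    · exact y1 (by rw [inj 1 (one_mem _) _ hd (S.r1.trans e.symm), U'.r1])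
    · exact y2 (by rw [inj a aD _ hd (h1.trans e.symm)])
    · exact y3 (by rw [inj _ (nD a aD) _ hd (ra.trans e.symm), ra'])
    · exact y4 (by rw [inj _ aa _ hd (raa.trans e.symm), U'.rm aU (nD a aD).2, ra'])

theorem f5 {z a : G} (hz : IsConj z0 z) (ca : IsConj z0 a) (S : St z) (T : St a) (ha : a ∈ S.Q)
    (n : a ≠ z) (h1 : S.ρ a = r1) (h2 : T.ρ z = r1) : False := by
  have zT := f1 S T ha
  obtain ⟨ρ3', ρ1, ρf, -⟩ := k_ρ
  obtain ⟨m, mz, ma, em, m3⟩ := S.lifta ha (S.ne0 T ha n) ρ3' (by rw [h1, ρf])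
  have p3 : T.π m * (T.π m * T.π m) = 1 := by
    rw [← T.pm ma ma, ← T.pm ma (ma.mul_left ma), m3, T.p1]
  have p1 : T.π m ≠ 1 := fun e => ρ1 (by
    have := T.four ((T.pk ma).1 e)
    rw [mul_assoc, m3, mul_one] at this
    rw [← em, this, S.p1])
  have := k_c4 _ (mem_cubG p3)
  simp only [ne_eq, cg_og, av_cg] at this
  obtain ⟨y, y1, y2, y3, y4, y5⟩ := this p1 (h2 ▸ T.fix_of_comm ma zT mz.symm)
  obtain ⟨t, ht, rfl⟩ := T.rs y
  have tz : Commute t z := (T.cm ht zT).2 (h2 ▸ y2)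
  have zt : IsConj z t := rk1_conj T zT ht (h2 ▸ k_rk1' _ _ _ (by decide)) y1
  have nc : ¬ IsConj t (z * t) := fun c => by
    obtain ⟨B⟩ := hS _ ((hz.trans zt).trans c)
    have e : T.ρ (z * t) = T.ρ t + r1 := by rw [T.rm zT ht, h2, add_comm]
    exact y3 (e ▸ f3 (mul_mem zT ht) (fun e' => y4 (by rw [← e, e', T.rz])) B)
  have tQ : t ∉ S.Q := fun hq => by
    obtain ⟨q, -, e⟩ := S.cjz hq fun e => by
      rcases (S.rk hq).1 e with rfl | rfl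
      · exact y1.1 T.r1
      · exact y4 (by rw [h2, V2])
    exact nc (isConj_iff.2 ⟨q, e.trans tz.eq⟩)
  have c1 := (mz.mul_left tz).mul_left mz.inv_left
  have c2 := (mz.mul_left c1).mul_left mz.inv_left
  have t1 := T.nq ma ht
  have t2 := T.nq ma t1
  have hp : t * (m * t * m⁻¹) * (m * (m * t * m⁻¹) * m⁻¹) ∈ S.Q := by
    rcases (T.rk (mul_mem (mul_mem ht t1) t2)).1 (by
      rw [T.rm (mul_mem ht t1) t2, T.rm ht t1, T.rc ma t1, T.rc ma ht, y5]) with e | e <;> rw [e]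
    exacts [one_mem _, ha]
  have := k_c5 _ (mem_invG (b_sq (S := S) ha ht tz))
  simp only [ne_eq, cg_og, av_cg, mg_cg, cg_inj] at this
  obtain ⟨v, hv, e⟩ := this (fun e => tQ ((S.pk tz).1 e)) (h1 ▸ b_fix ha ht tz) (by
    rw [← em, ← S.pc mz tz, ← S.pc mz c1, ← S.pm tz c1, ← S.pm (tz.mul_left c1) c2, S.pQ hp])
  exact f6 hS hz ca (hz.trans zt) S T ha h1 ht tz tQ (e ▸ hv) nc

theorem wc : WC z0 := fun z hz S a ha ca => by
  by_contra n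
  obtain ⟨T⟩ := hS a ca
  obtain ⟨g, -, e⟩ := (f3 ha n T).ev
  obtain ⟨g', -, e'⟩ := (f3 (f1 S T ha) (Ne.symm n) S).ev
  exact f5 hS hz ca (S.tw g⁻¹) (T.tw g'⁻¹) ha n (by
    show g⁻¹ • S.ρ a = _
    rw [← e, inv_smul_smul]) (by
    show g'⁻¹ • T.ρ z = _
    rw [← e', inv_smul_smul])

omit hS in
theorem isolated {z : G} (S : St z) (g : G) (h : Commute z (g * z * g⁻¹)) : g * z * g⁻¹ = z := by
  have hS : ∀ t, IsConj z t → Nonempty (St t) := fun t c => by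
    obtain ⟨g, rfl⟩ := isConj_iff.1 c
    exact ⟨S.cj g⟩
  by_contra n
  exact (wc hS).false hS (IsConj.refl z) (isConj_iff.2 ⟨g, rfl⟩) h.symm n

end X9
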