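import Cfsg.Agent.X9.Md
import Cfsg.Agent.X9.Fu
import Cfsg.Agent.H7.Extraspecial2
import Cfsg.Agent.H3.ZCor

/-! No simple group has an involution centralizer `2^(1+8).H` with `3 × A₆ ≤ H ≤ S₃ × S₆`. -/

set_option autoImplicit false
open Equiv Subgroup Cfsg

namespace X9
universe u
variable {G : Type u} [Group G]

theorem ex_quot {z : G} {Q : Subgroup G} (es : H7.ES Q z) (card : Nat.card Q = 512) :
    ∃ (U : Type u) (_ : AddCommGroup U) (r : G → U), Nat.card U = 256 ∧
      (∀ a ∈ Q, ∀ b ∈ Q, r (a * b) = r a + r b) ∧ (∀ a ∈ Q, r a = 0 ↔ a = 1 ∨ a = z) ∧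
      ∀ u : U, ∃ a ∈ Q, r a = u := by
  classical
  let Z : Subgroup Q := (zpowers z).subgroupOf Q
  have mZ : ∀ a : Q, a ∈ Z ↔ a.1 = 1 ∨ a.1 = z := fun a => es.mem_zpowers_iff
  have : Z.Normal := ⟨fun n hn g => (mZ _).2 (by
    rcases (mZ n).1 hn with e | e
    · left; simp [e]
    · right; simp [e, es.cent g g.2])⟩
  let _ : CommGroup (Q ⧸ Z) := { (inferInstance : Group (Q ⧸ Z)) with
    mul_comm := fun a b => by
      obtain ⟨a, rfl⟩ := QuotientGroup.mk_surjective a
      obtain ⟨b, rfl⟩ := QuotientGroup.mk_surjective b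
      rw [← QuotientGroup.mk_mul, ← QuotientGroup.mk_mul, QuotientGroup.eq, mZ]
      have := es.comm (inv_mem b.2) (inv_mem a.2)
      simpa [commutatorElement_def, mul_assoc] using this }
  refine ⟨Additive (Q ⧸ Z), inferInstance,
    fun g => if h : g ∈ Q then Additive.ofMul (QuotientGroup.mk ⟨g, h⟩) else 0, ?_, ?_, ?_, ?_⟩
  · have := Z.card_eq_card_quotient_mul_card_subgroup
    rw [card, Nat.card_congr (subgroupOfEquivOfLe (zpowers_le.2 es.mem)).toEquiv,
      es.card_zpowers] at this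
    show Nat.card (Q ⧸ Z) = 256
    omega
  · intro a ha b hb
    simp only [dif_pos ha, dif_pos hb, dif_pos (mul_mem ha hb)]; rfl
  · intro a ha
    simp only [dif_pos ha, ofMul_eq_zero, QuotientGroup.eq_one_iff, mZ]
  · intro u
    obtain ⟨a, e⟩ := QuotientGroup.mk_surjective (Additive.toMul u)
    exact ⟨a, a.2, by simp only [dif_pos a.2]; exact congrArg Additive.ofMul e⟩

theorem st_of [Finite G] (hG : ∀ (f : G →* ℤˣ) (g : G), f g = 1) {z : G} {Q : Subgroup G}
    (es : H7.ES Q z) (card : Nat.card Q = 512) (π0 : centralizer ({z} : Set G) →* Γ)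
    (hk : ∀ m, π0 m = 1 ↔ m.1 ∈ Q) (hs : ∀ γ, Ev γ → γ ∈ π0.range)
    (hc : ∀ m, Commute m z → (∀ q ∈ Q, Commute m q) → m ∈ Q) : Nonempty (St z) := by
  classical
  obtain ⟨U, _, r, cU, rm, rk, rs⟩ := ex_quot es card
  choose sec sQ rsec using rs
  let π : G → Γ := fun m => if h : Commute m z then π0 ⟨m, mcs.2 h⟩ else 1
  have πe : ∀ {m} (h : Commute m z), π m = π0 ⟨m, mcs.2 h⟩ := fun h => dif_pos h
  have pm : ∀ {a b}, Commute a z → Commute b z → π (a * b) = π a * π b := fun ha hb => by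
    rw [πe ha, πe hb, πe (ha.mul_left hb), ← map_mul]; rfl
  have pk : ∀ {a}, Commute a z → (π a = 1 ↔ a ∈ Q) := fun ha => by rw [πe ha, hk]
  have QM : ∀ {q}, q ∈ Q → Commute q z := fun hq => es.cent _ hq
  have pinv : ∀ {a}, Commute a z → π a⁻¹ = (π a)⁻¹ := fun ha =>
    eq_inv_of_mul_eq_one_left (by
      rw [← pm ha.inv_left ha, inv_mul_cancel, (pk (Commute.one_left z)).2 Q.one_mem])
  have nq : ∀ {m q}, Commute m z → q ∈ Q → m * q * m⁻¹ ∈ Q := fun hm hq => by
    rw [← pk ((hm.mul_left (QM hq)).mul_left hm.inv_left), pm (hm.mul_left (QM hq)) hm.inv_left,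
      pm hm (QM hq), (pk (QM hq)).2 hq, pinv hm]; simp
  have : ∀ γ, ∃ m, Commute m z ∧ (γ ∈ π0.range → π m = γ) := fun γ => by
    by_cases h : γ ∈ π0.range
    · obtain ⟨m, rfl⟩ := h
      exact ⟨m, mcs.1 m.2, fun _ => πe (mcs.1 m.2)⟩
    · exact ⟨1, Commute.one_left z, fun e => absurd e h⟩
  choose lf lz lπ using this
  have mr : ∀ {m}, Commute m z → π m ∈ π0.range := fun h => ⟨_, (πe h).symm⟩
  have rz : r z = 0 := (rk z es.mem).2 (Or.inr rfl)
  have two : ∀ u : U, u + u = 0 := fun u => by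
    rw [← rsec u, ← rm _ (sQ u) _ (sQ u), rk _ (mul_mem (sQ u) (sQ u))]; exact es.sq _ (sQ u)
  have rinv : ∀ a ∈ Q, r a⁻¹ = r a := fun a ha => eq_of_add two (by
    rw [← rm _ (inv_mem ha) _ ha, inv_mul_cancel, rk _ Q.one_mem]; exact Or.inl rfl)
  have eqr : ∀ a ∈ Q, ∀ b ∈ Q, r a = r b → b = a ∨ b = a * z := fun a ha b hb e => by
    have := (rk _ (mul_mem (inv_mem ha) hb)).1 (by rw [rm _ (inv_mem ha) _ hb, rinv a ha, e, two])
    exact this.imp (fun h => (inv_mul_eq_one.1 h).symm) fun h => by rw [← h]; group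
  have cz : ∀ {m} (q : G), Commute m z → m * (q * z) * m⁻¹ = m * q * m⁻¹ * z := fun q hm => by
    rw [mul_assoc, mul_assoc, ← hm.inv_left.eq]; group
  have rcj : ∀ {m a b}, Commute m z → a ∈ Q → b ∈ Q → r a = r b →
      r (m * a * m⁻¹) = r (m * b * m⁻¹) := fun hm ha hb e => by
    rcases eqr _ ha _ hb e with rfl | rfl
    · rfl
    · rw [cz _ hm, rm _ (nq hm ha) _ es.mem, rz, add_zero]
  let a : Γ → U →+ U := fun γ => AddMonoidHom.mk' (fun u => r (lf γ * sec u * (lf γ)⁻¹))
    fun u v => by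
      rw [← rm _ (nq (lz γ) (sQ u)) _ (nq (lz γ) (sQ v)),
        rcj (lz γ) (sQ _) (mul_mem (sQ u) (sQ v)) (by rw [rm _ (sQ u) _ (sQ v), rsec, rsec, rsec])]
      congr 1; group
  have ar : ∀ {m q}, Commute m z → q ∈ Q → a (π m) (r q) = r (m * q * m⁻¹) := fun {m q} hm hq => by
    have c := hm.inv_left.mul_left (lz (π m))
    have h0 : m⁻¹ * lf (π m) ∈ Q := by
      rw [← pk c, pm hm.inv_left (lz _), pinv hm, lπ _ (mr hm), inv_mul_cancel]
    show r (lf (π m) * sec (r q) * (lf (π m))⁻¹) = _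
    rw [rcj (lz _) (sQ _) hq (rsec _), ← rcj hm (nq c hq) hq (by
      rw [rm _ (mul_mem h0 hq) _ (inv_mem h0), rm _ h0 _ hq, rinv _ h0, add_right_comm, two,
        zero_add])]
    congr 1; group
  let qU : U → ZMod 2 := fun u => if sec u * sec u = 1 then 0 else 1
  have zz := es.sq_z
  have qr : ∀ q ∈ Q, qU (r q) = if q * q = 1 then 0 else 1 := fun q hq => by
    rcases eqr _ hq _ (sQ (r q)) (rsec _).symm with e | e <;> simp only [qU, e]
    rw [show q * z * (q * z) = q * q by
      rw [mul_assoc, ← mul_assoc z, ← (QM hq).eq, mul_assoc q z, zz, mul_one]]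
  have cj : ∀ a ∈ Q, ∀ b ∈ Q, ¬ Commute a b → a * b * a⁻¹ = b * z := fun a ha b hb h =>
    (es.conj_eq ha hb h).trans (QM hb).eq.symm
  have nz : ∀ b, b * z ≠ b := fun b e => es.ne (by simpa using e)
  have br : ∀ a ∈ Q, ∀ b ∈ Q, bb qU (r a) (r b) = if Commute a b then 0 else 1 :=
    fun a ha b hb => by
      rw [bb, ← rm a ha b hb, qr _ (mul_mem ha hb), qr a ha, qr b hb]
      have z1 := es.ne
      by_cases h : Commute a b
      · rw [show a * b * (a * b) = a * a * (b * b) by
          rw [mul_assoc, ← mul_assoc b, ← h.eq]; group]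
        rcases es.sq a ha with x | x <;> rcases es.sq b hb with y | y <;>
          simp [x, y, h, z1, zz] <;> decide
      · rw [show a * b * (a * b) = z * (a * a * (b * b)) by
          have := cj _ hb _ ha fun c => h c.symm
          calc a * b * (a * b) = a * (b * a * b⁻¹) * (b * b) := by group
            _ = a * a * z * (b * b) := by rw [this]; group
            _ = _ := by rw [(QM (mul_mem ha ha)).eq]; group]
        rcases es.sq a ha with x | x <;> rcases es.sq b hb with y | y <;>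
          simp [x, y, h, z1, zz] <;> decide
  have rs : ∀ u, ∃ q ∈ Q, r q = u := fun u => ⟨_, sQ u, rsec u⟩
  have ps : ∀ γ ∈ π0.range, ∃ m, Commute m z ∧ π m = γ := fun γ h => ⟨_, lz γ, lπ γ h⟩
  let M : Md U :=
    { H := π0.range
      a := a
      q := qU
      hH := hs _
      a1 := fun u => by
        obtain ⟨q, hq, rfl⟩ := rs u
        rw [← (pk (Commute.one_left z)).2 Q.one_mem, ar (Commute.one_left z) hq]; simp
      am := fun hg hh u => by
        obtain ⟨q, hq, rfl⟩ := rs u
        obtain ⟨m, hm, rfl⟩ := ps _ hg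
        obtain ⟨n, hn, rfl⟩ := ps _ hh
        rw [← pm hm hn, ar hn hq, ar hm (nq hn hq), ar (hm.mul_left hn) hq]
        congr 1; group
      two := two
      card := cU
      Bl := fun x y w => by
        obtain ⟨a, ha, rfl⟩ := rs x
        obtain ⟨b, hb, rfl⟩ := rs y
        obtain ⟨c, hc, rfl⟩ := rs w
        rw [← rm a ha b hb, br _ (mul_mem ha hb) c hc, br a ha c hc, br b hb c hc]
        have e : a * b * c * (a * b)⁻¹ = a * (b * c * b⁻¹) * a⁻¹ := by group
        by_cases h1 : Commute a c <;> by_cases h2 : Commute b c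
        · simp [h1, h2, h1.mul_left h2]
        · have : ¬ Commute (a * b) c := fun h => h2 (by simpa using h1.inv_left.mul_left h)
          simp [h1, h2, this]
        · have : ¬ Commute (a * b) c := fun h => h1 (by simpa using h.mul_left h2.inv_left)
          simp [h1, h2, this]
        · have : Commute (a * b) c := mul_inv_eq_iff_eq_mul.1 (by
            rw [e, cj b hb c hc h2, cz _ (QM ha), cj a ha c hc h1, mul_assoc, zz, mul_one])
          simp only [h1, h2, this, if_true, if_false]; rfl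
      qi := fun hg u => by
        obtain ⟨q, hq, rfl⟩ := rs u
        obtain ⟨m, hm, rfl⟩ := ps _ hg
        rw [ar hm hq, qr _ (nq hm hq), qr q hq,
          show m * q * m⁻¹ * (m * q * m⁻¹) = m * (q * q) * m⁻¹ by group]
        simp [mul_inv_eq_iff_eq_mul]
      nd := fun x h => by
        obtain ⟨a, ha, rfl⟩ := rs x
        refine (rk a ha).2 (es.center a ha fun q hq => ?_)
        have := h (r q)
        rw [br a ha q hq] at this
        by_contra c
        rw [if_neg fun e : Commute a q => c e.symm.eq] at this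
        exact absurd this (by decide)
      f3 := fun {g} h3 h => by
        obtain ⟨m, hm, rfl⟩ := ps _ (hs _ (ev_of_cub h3))
        have : m * m ∈ Q := hc _ (hm.mul_left hm) fun q hq => mul_inv_eq_iff_eq_mul.1 (by
          rw [show m * m * q * (m * m)⁻¹ = m * (m * q * m⁻¹) * m⁻¹ by group]
          rcases eqr _ hq _ (nq hm hq) (by rw [← ar hm hq, h]) with e | e
          · rw [e, e]
          · rw [e, cz _ hm, e, mul_assoc, zz, mul_one])
        rwa [← pm hm hm, (pk (hm.mul_left hm)).2 this, mul_one] at h3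
      nf := fun x h => by
        obtain ⟨q, hq, rfl⟩ := rs x
        refine (rk q hq).2 (es.center q hq fun q0 hq0 => ?_)
        by_contra c
        refine c (mcs.1 (es.le_of_relIndex_two hG (fun m hm => mem_normalizer_fintype
          fun n hn => nq (mcs.1 hm) hn) (fun m hm => hc m (hm z es.mem).symm
          fun q hq => (hm q hq).symm) (by omega) (K := centralizer {q}) ?_ hq0))
        refine relIndex_eq_two_iff.2 ⟨q0, mcs.2 (QM hq0), fun b hb => ?_⟩
        have hb := mcs.1 hb
        have e0 : b * q0 * q * (b * q0)⁻¹ = b * q * b⁻¹ * z := by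
          rw [← cz _ hb, ← cj q0 hq0 q hq c]; group
        have k : ∀ m, m ∈ centralizer ({q} : Set G) ↔ m * q * m⁻¹ = q := fun m => by
          rw [mcs, mul_inv_eq_iff_eq_mul]; rfl
        rw [k, k, e0]
        rcases eqr _ hq _ (nq hb hq) (by rw [← ar hb hq, h _ (mr hb)]) with e | e <;> rw [e]
        · exact Or.inr ⟨rfl, nz q⟩
        · exact Or.inl ⟨by rw [mul_assoc, zz, mul_one], nz q⟩ }
  obtain ⟨F, hF, φ, hφ, hq⟩ := M.main'
  exact ⟨{
    Q := Q
    π := fun m => F.symm (π m)
    ρ := fun q => φ.symm (r q)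
    z2 := zz
    z1 := es.ne
    zQ := es.mem
    QM := QM
    pm := fun ha hb => by rw [pm ha hb, map_mul]
    pk := fun ha => by rw [← pk ha, map_eq_one_iff _ F.symm.injective]
    ps := fun h => by
      obtain ⟨m, hm, e⟩ := ps _ (hs _ ((hF _).2 h))
      exact ⟨m, hm, by rw [e, F.symm_apply_apply]⟩
    rm := fun ha hb => by rw [rm _ ha _ hb, map_add]
    rk := fun ha => by rw [← rk _ ha, map_eq_zero_iff _ φ.symm.injective]
    rs := fun v => by
      obtain ⟨q, hq, e⟩ := rs (φ v)
      exact ⟨q, hq, by rw [e, φ.symm_apply_apply]⟩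
    rc := fun hm hq => by
      rw [φ.symm_apply_eq, hφ _ (by rw [F.apply_symm_apply]; exact mr hm), F.apply_symm_apply,
        φ.apply_symm_apply]
      exact (ar hm hq).symm
    sq := fun {q} h => by
      rw [← hq, φ.apply_symm_apply]
      show _ ↔ qU (r q) = 0
      rw [qr q h]; split_ifs with c <;> simp [c] }⟩

theorem not_simple [Finite G] [IsSimpleGroup G] {z : G} (hz : orderOf z = 2)
    {Q0 : Subgroup (centralizer ({z} : Set G))} [Q0.Normal] (hQ : IsExtraspecial 2 Q0)
    (h9 : Nat.card Q0 = 2 ^ 9) (hC : centralizer (Q0 : Set (centralizer ({z} : Set G))) ≤ Q0)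
    (f : (centralizer ({z} : Set G) ⧸ Q0) →* Γ) (hf : Function.Injective f)
    (hs : ∀ γ, Ev γ → γ ∈ f.range) : False := by
  have zM : z ∈ centralizer ({z} : Set G) := mcs.2 (Commute.refl z)
  have z1 : z ≠ 1 := by rintro rfl; simp at hz
  have cz : ∀ q : centralizer ({z} : Set G), q * ⟨z, zM⟩ = ⟨z, zM⟩ * q := fun q =>
    Subtype.ext (mcs.1 q.2).eq
  have e0 := H7.es_of_isExtraspecial hQ (z := ⟨z, zM⟩) (fun e => z1 (congrArg Subtype.val e))
    (hC fun q _ => cz q) fun q _ => cz q
  let Q := Q0.map (centralizer ({z} : Set G)).subtype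
  have mQ : ∀ m : centralizer ({z} : Set G), m.1 ∈ Q ↔ m ∈ Q0 := fun m =>
    mem_map_iff_mem Subtype.val_injective
  have ce : ∀ x ∈ Q, (∀ q ∈ Q, q * x = x * q) → x = 1 ∨ x = z := by
    rintro _ ⟨x, hx, rfl⟩ h
    exact (e0.center x hx fun q hq => Subtype.ext (h q ((mQ q).2 hq))).imp
      (congrArg Subtype.val) (congrArg Subtype.val)
  have es : H7.ES Q z :=
    { ne := z1
      sq_z := congrArg Subtype.val e0.sq_z
      mem := (mQ _).2 e0.mem
      cent := by rintro _ ⟨q, -, rfl⟩; exact (mcs.1 q.2).eq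
      sq := by
        rintro _ ⟨q, hq, rfl⟩
        exact (e0.sq q hq).imp (congrArg Subtype.val) (congrArg Subtype.val)
      uniq := fun x hx h _ => ce x hx h
      center := ce }
  have card : Nat.card Q = 512 := by
    rw [← Nat.card_congr (Q0.equivMapOfInjective _ Subtype.val_injective).toEquiv, h9]; rfl
  have cle := card_le_card_group Q
  have hG : ∀ (φ : G →* ℤˣ) (g : G), φ g = 1 := fun φ g => by
    rcases φ.normal_ker.eq_bot_or_eq_top with h | h
    · have := Nat.card_le_card_of_injective φ (φ.ker_eq_bot_iff.1 h)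
      rw [show Nat.card ℤˣ = 2 by simp] at this
      omega
    · exact MonoidHom.mem_ker.1 (h ▸ mem_top g)
  obtain ⟨S⟩ := st_of hG es card (f.comp (QuotientGroup.mk' Q0)) (fun m => by
    rw [mQ, MonoidHom.comp_apply, map_eq_one_iff _ hf]; exact QuotientGroup.eq_one_iff m)
    (fun γ h => by
      obtain ⟨x, rfl⟩ := hs γ h
      obtain ⟨m, rfl⟩ := QuotientGroup.mk_surjective x
      exact ⟨m, rfl⟩)
    fun m hm h => (mQ ⟨m, mcs.2 hm⟩).2 (hC fun q hq => Subtype.ext (h q ((mQ q).2 hq)).symm.eq)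
  have := H3.zpowers_eq_top_of_isolated hz (isolated S)
  rw [← card_top (G := G), ← this, Nat.card_zpowers] at cle
  omega

end X9
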