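import Cfsg.Agent.X9.M

/-! Finite facts about `S₃ × S₆` and its module. -/

set_option autoImplicit false
set_option maxRecDepth 100000
set_option synthInstance.maxSize 2000
open Equiv

namespace X9

def Ev (a : Γ) : Prop := Perm.sign a.1 = 1 ∧ Perm.sign a.2 = 1
theorem Ev.conj {a : Γ} (h : Ev a) (g : Γ) : Ev (g * a * g⁻¹) := by
  obtain ⟨h1, h2⟩ := h
  constructor <;> simp [h1, h2]
theorem Ev.mul {a b : Γ} (h : Ev a) (h' : Ev b) : Ev (a * b) := by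
  constructor <;> simp [h.1, h.2, h'.1, h'.2]
theorem Ev.inv {a : Γ} (h : Ev a) : Ev a⁻¹ := by
  constructor <;> simp [h.1, h.2]
theorem ev_snd {g : S6} (h : Perm.sign g = 1) : Ev (1, g) := ⟨by simp, h⟩
theorem ev_of_cub {a : Γ} (h : a * (a * a) = 1) : Ev a := by
  have h1 := congrArg (fun x : Γ => Perm.sign x.1) h
  have h2 := congrArg (fun x : Γ => Perm.sign x.2) h
  simp at h1 h2
  exact ⟨h1, h2⟩

def Fx (a : Γ) : Finset V := Finset.univ.filter fun x => a • x = x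
theorem mem_Fx {a : Γ} {x : V} : x ∈ Fx a ↔ a • x = x := by simp [Fx]
def M4 (a : Γ) : Prop := ∀ x : V, a • x = x → ∃ y, x = y + a • y
def IsA (a : Γ) : Prop := ∀ y : V, qf (y + a • y) = false
def alc (c : C) : Prop := (c.1 = idc ∧ nfc c.2 ≤ 2) ∨ (c.1 ≠ idc ∧ nfc c.2 = 0)
def Al (a : Γ) : Prop := alc (cg a)
theorem alc_cg (a : Γ) : alc (cg a) = Al a := rfl
theorem al_iff {a : Γ} : Al a ↔ (a.1 = 1 ∧ nf a.2 ≤ 2) ∨ (a.1 ≠ 1 ∧ nf a.2 = 0) := by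
  simp only [Al, alc, ne_eq, cg1, nfc_cg]
instance (a : Γ) : Decidable (M4 a) := by unfold M4; infer_instance
instance (a : Γ) : Decidable (IsA a) := by unfold IsA; infer_instance
instance (c : C) : Decidable (alc c) := by unfold alc; infer_instance

theorem conj_smul (g a : Γ) (x : V) : (g * a * g⁻¹) • g • x = g • a • x := by
  simp [mul_smul]
theorem M4.conj {a : Γ} (h : M4 a) (g : Γ) : M4 (g * a * g⁻¹) := fun x hx => by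
  obtain ⟨y, e⟩ := h (g⁻¹ • x) (by rw [eq_inv_smul_iff, ← mul_smul, ← mul_smul, hx])
  refine ⟨g • y, ?_⟩
  rw [conj_smul, ← smul_add, ← e, smul_inv_smul]
theorem IsA.conj {a : Γ} (h : IsA a) (g : Γ) : IsA (g * a * g⁻¹) := fun y => by
  rw [← smul_inv_smul g y, conj_smul, ← smul_add, qf_smul, h]
theorem not_isA_conj {a : Γ} (h : ¬ IsA a) (g : Γ) : ¬ IsA (g * a * g⁻¹) := fun h' =>
  h (by simpa [mul_assoc] using h'.conj g⁻¹)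
theorem Fx_conj (a g : Γ) : (Fx a).card ≤ (Fx (g * a * g⁻¹)).card :=
  Finset.card_le_card_of_injOn (g • ·) (fun x hx => by
    have := mem_Fx.1 (Finset.mem_coe.1 hx)
    exact Finset.mem_coe.2 (mem_Fx.2 (by rw [conj_smul, this])))
    (fun _ _ _ _ e => MulAction.injective g e)

def rT : Γ := (1, τ0)
def LA : List Γ := [(1, v0), (1, w0), (s0, w0)]
theorem k_rep : ∀ r ∈ [(1, v0), (1, w0), (s0, w0), (s0, 1), (s0, τ0), (s0, v0)],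
    16 ≤ (Fx r).card ∧ M4 r := by decide +kernel
theorem k_repA : ∀ r ∈ LA, IsA r := by decide +kernel
theorem k_repC : ¬ IsA (s0, τ0) ∧ ¬ IsA (s0, v0) := by decide +kernel
theorem k_repT : 64 ≤ (Fx rT).card := by decide +kernel

theorem types {a : Γ} (h : a * a = 1) (h1 : a ≠ 1) : 16 ≤ (Fx a).card ∧
    ((∃ g, g * rT * g⁻¹ = a) ∨ (M4 a ∧ (a.2 = 1 ∨ ¬ IsA a ∨
      (Al a ∧ IsA a ∧ ∃ g, ∃ r ∈ LA, g * r * g⁻¹ = a)))) := by
  obtain ⟨a1, a2⟩ := a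
  have s1 : ∀ h : S3, h * s0 * h⁻¹ ≠ 1 := by decide +kernel
  have key : ∀ (g r : Γ), r ∈ [(1, v0), (1, w0), (s0, w0), (s0, 1), (s0, τ0), (s0, v0)] →
      16 ≤ (Fx (g * r * g⁻¹)).card ∧ M4 (g * r * g⁻¹) := fun g r hr =>
    ⟨(k_rep r hr).1.trans (Fx_conj _ _), (k_rep r hr).2.conj g⟩
  rcases cls3 a1 (congrArg Prod.fst h) with rfl | ⟨g1, rfl⟩ <;>
    rcases cls (g := a2) (congrArg Prod.snd h) with rfl | ⟨g2, ⟨n, e⟩ | ⟨n, e⟩ | ⟨n, e⟩⟩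
  · exact absurd rfl h1
  · have e' : (1, g2) * rT * (1, g2)⁻¹ = ((1 : S3), a2) := by simp [rT, e]
    exact ⟨e' ▸ le_trans (by decide) (k_repT.trans (Fx_conj _ _)), Or.inl ⟨_, e'⟩⟩
  · have e' : (1, g2) * (1, v0) * (1, g2)⁻¹ = ((1 : S3), a2) := by simp [e]
    have := key (1, g2) (1, v0) (by simp)
    rw [e'] at this
    exact ⟨this.1, Or.inr ⟨this.2, Or.inr (Or.inr ⟨al_iff.2 (Or.inl ⟨rfl, by simp [n]⟩),
      e' ▸ (k_repA _ (by simp [LA])).conj _, _, _, by simp [LA], e'⟩)⟩⟩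
  · have e' : (1, g2) * (1, w0) * (1, g2)⁻¹ = ((1 : S3), a2) := by simp [e]
    have := key (1, g2) (1, w0) (by simp)
    rw [e'] at this
    exact ⟨this.1, Or.inr ⟨this.2, Or.inr (Or.inr ⟨al_iff.2 (Or.inl ⟨rfl, by simp [n]⟩),
      e' ▸ (k_repA _ (by simp [LA])).conj _, _, _, by simp [LA], e'⟩)⟩⟩
  · have e' : (g1, 1) * (s0, 1) * (g1, 1)⁻¹ = (g1 * s0 * g1⁻¹, (1 : S6)) := by simp
    have := key (g1, 1) (s0, 1) (by simp)
    rw [e'] at this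
    exact ⟨this.1, Or.inr ⟨this.2, Or.inl rfl⟩⟩
  · have e' : (g1, g2) * (s0, τ0) * (g1, g2)⁻¹ = (g1 * s0 * g1⁻¹, a2) := by simp [e]
    have := key (g1, g2) (s0, τ0) (by simp)
    rw [e'] at this
    exact ⟨this.1, Or.inr ⟨this.2, Or.inr (Or.inl (e' ▸ not_isA_conj k_repC.1 _))⟩⟩
  · have e' : (g1, g2) * (s0, v0) * (g1, g2)⁻¹ = (g1 * s0 * g1⁻¹, a2) := by simp [e]
    have := key (g1, g2) (s0, v0) (by simp)
    rw [e'] at this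
    exact ⟨this.1, Or.inr ⟨this.2, Or.inr (Or.inl (e' ▸ not_isA_conj k_repC.2 _))⟩⟩
  · have e' : (g1, g2) * (s0, w0) * (g1, g2)⁻¹ = (g1 * s0 * g1⁻¹, a2) := by simp [e]
    have := key (g1, g2) (s0, w0) (by simp)
    rw [e'] at this
    exact ⟨this.1, Or.inr ⟨this.2, Or.inr (Or.inr ⟨al_iff.2 (Or.inr ⟨s1 _, n⟩),
      e' ▸ (k_repA _ (by simp [LA])).conj _, _, _, by simp [LA], e'⟩)⟩⟩

theorem k_e8 : ∀ a ∈ invc, a ≠ idc → nfc a ≠ 4 → ∀ b ∈ invc, b ≠ idc → nfc b ≠ 4 → b ≠ a →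
    mc a b = mc b a → nfc (mc a b) ≠ 4 → ∀ c ∈ invc, c ≠ idc → nfc c ≠ 4 → c ≠ a → c ≠ b →
    mc a c = mc c a → mc b c = mc c b → c ≠ mc a b →
    nfc (mc a c) = 4 ∨ nfc (mc b c) = 4 ∨ nfc (mc (mc a b) c) = 4 := by decide +kernel

theorem k_g5 : ∀ s ∈ invG, s.2 = idc → s ≠ og → ∀ a ∈ invG, nfc a.2 = 4 → mg s a = mg a s →
    ∀ z ∈ invG, alc z → mg s z = mg z s → mg a z = mg z a → alc (mg s z) → alc (mg a z) →
    ¬ alc (mg (mg s a) z) := by decide +kernel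

def LT : List (Fin 6 × Fin 6 × Fin 6) := [(0,1,2), (0,1,3), (0,1,4), (0,1,5), (0,2,3), (0,2,4),
  (0,2,5), (0,3,4), (0,3,5), (0,4,5), (1,2,3), (1,2,4), (1,2,5), (1,3,4), (1,3,5), (1,4,5),
  (2,3,4), (2,3,5), (2,4,5), (3,4,5)]
def T3 : List Γ := LT.map fun p => (1, c3 p.1 p.2.1 p.2.2)
theorem k_T3 : ∀ c ∈ T3, c * (c * c) = 1 ∧ c.1 = 1 := by decide +kernel
theorem k_s : ∀ g ∈ invc, g ≠ idc → ∃ c ∈ T3,
    mc (mc g (mc (mc (cd c.2) g) (cd c.2⁻¹))) (mc g (mc (mc (cd c.2) g) (cd c.2⁻¹))) ≠ idc := by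
  decide +kernel

theorem k_nd : ∀ x : V, x ≠ 0 → ∃ y, bf x y = true := by decide +kernel
theorem perp2 {a x : V} (h : ∀ y, bf a y = false → bf x y = false) : x = 0 ∨ x = a := by
  by_contra hc
  push Not at hc
  obtain ⟨y1, h1⟩ := k_nd x hc.1
  obtain ⟨y2, h2⟩ := k_nd (x + a) fun e => hc.2 (by rw [← V2' a x, add_comm a x, e, add_zero])
  rw [bf_comm, bf_addr, bf_comm y2, bf_comm y2] at h2
  have a1 := h y1
  have a2 := h y2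
  have a3 := h (y1 + y2)
  rw [bf_addr, bf_addr] at a3
  revert h1 h2 a1 a2 a3
  generalize bf a y1 = p; generalize bf a y2 = q; generalize bf x y1 = r; generalize bf x y2 = s
  revert p q r s; decide
theorem k_na : ∀ a : V, ∃ x, bf a x = false ∧ x ≠ 0 ∧ x ≠ a := by decide +kernel

def r1 : V := te (0 : Fin 3) (du (0 : Fin 6) (1 : Fin 6))
def r1' : V := te (1 : Fin 3) (du (0 : Fin 6) (1 : Fin 6))
def r2 : V := te (0 : Fin 3) (du (0 : Fin 6) (1 : Fin 6)) + te (1 : Fin 3) (du (2 : Fin 6) (3 : Fin 6))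
def F4 : List V := [0, r1, r1', r1 + r1']
theorem k_T : ∀ x : V, (∀ y, rT • y = y → bf x y = false) → x ∈ F4 ∧ ∃ y, x = y + rT • y := by
  decide +kernel

def rk1 (x : V) : Prop := x ≠ 0 ∧ (x.1 = 0 ∨ x.2 = 0 ∨ x.1 = x.2)
instance (x : V) : Decidable (rk1 x) := by unfold rk1; infer_instance
theorem k_rk1 : ∀ x : V, rk1 x → qf x = false ∧ ∃ (k : Fin 3) (i j : Fin 6), i ≠ j ∧
    x = te k (du i j) := by decide +kernel
theorem k_rk1' : ∀ (k : Fin 3) (i j : Fin 6), i ≠ j → rk1 (te k (du i j)) := by decide +kernel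
theorem rk1.smul {x : V} (h : rk1 x) (a : Γ) : rk1 (a • x) := by
  obtain ⟨-, k, i, j, hij, rfl⟩ := k_rk1 x h
  rw [smul_te]
  exact k_rk1' _ _ _ fun e => hij (a.2.injective e)
theorem rk1.ev {x : V} (h : rk1 x) : ∃ a, Ev a ∧ a • r1 = x := by
  obtain ⟨-, k, i, j, hij, rfl⟩ := k_rk1 x h
  have h3 : ∀ k : Fin 3, ∃ s : S3, s * (s * s) = 1 ∧ s 0 = k := by decide +kernel
  have h6 : ∀ i j : Fin 6, i ≠ j → ∃ k l, i ≠ k ∧ i ≠ l ∧ j ≠ k ∧ j ≠ l ∧ k ≠ l := by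
    decide +kernel
  obtain ⟨s, hs, rfl⟩ := h3 k
  obtain ⟨k, l, a, b, c, d, e⟩ := h6 i j hij
  obtain ⟨g, hg, rfl, rfl, -, -⟩ := ex_ev hij a b c d e
  refine ⟨(s, g), ⟨?_, hg⟩, smul_te _ _ _ _⟩
  have := congrArg Perm.sign hs
  simpa using this
theorem k_rk2 : ∀ x : V, qf x = false → x = 0 ∨ rk1 x ∨ ∃ i j : Fin 6, x.1 = du i j ∧ i ≠ j ∧
    ∃ k l : Fin 6, x.2 = du k l ∧ i ≠ k ∧ i ≠ l ∧ j ≠ k ∧ j ≠ l ∧ k ≠ l := by decide +kernel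
theorem rk2 {x : V} (h : qf x = false) : x = 0 ∨ rk1 x ∨ ∃ a, Ev a ∧ a • r2 = x := by
  refine (k_rk2 x h).imp id (Or.imp id fun ⟨i, j, e1, hij, k, l, e2, a, b, c, d, e⟩ => ?_)
  obtain ⟨g, hg, rfl, rfl, rfl, rfl⟩ := ex_ev hij a b c d e
  refine ⟨(1, g), ev_snd hg, ?_⟩
  rw [r2, smul_add, smul_te, smul_te, te_split x, e1, e2]; rfl

def ω : Γ := (θ0 * θ0, c3 0 2 4 * c3 1 3 5)
def LZ : List W := [0, du 0 1, du 2 3, du 4 5]
theorem k_ω : ω * (ω * ω) = 1 ∧ ω • r2 = r2 := by decide +kernel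
theorem k_c3 : ∀ c ∈ invG, av c r2 = r2 →
    mg (mg c (mg (mg (cg ω) c) (cg ω⁻¹))) (mg c (mg (mg (cg ω) c) (cg ω⁻¹))) = og →
    (∀ y : V, y.1 ∈ LZ → y.2 ∈ LZ → av c y = y) ∧ (c = og ∨ ∃ x, bf r2 x = false ∧
      av c x + x ≠ 0 ∧ av c x + x ≠ r2 ∧ (av c x + x).1 ∈ LZ ∧ (av c x + x).2 ∈ LZ) := by
  decide +kernel
theorem k_c4 : ∀ c ∈ cubG, c ≠ og → av c r1 = r1 → ∃ y, rk1 y ∧ bf y r1 = false ∧
    ¬ rk1 (y + r1) ∧ y + r1 ≠ 0 ∧ y + av c y + av c (av c y) = 0 := by decide +kernel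
def ρ3 : Γ := (1, c3 2 3 4)
def θ : Γ := (θ0, 1)
def LV : List Γ := [(1, v0), (1, swap 2 4 * swap 3 5), (1, swap 2 5 * swap 3 4)]
theorem k_ρ : ρ3 * (ρ3 * ρ3) = 1 ∧ ρ3 ≠ 1 ∧ ρ3 • r1 = r1 ∧ θ * (θ * θ) = 1 ∧ θ ≠ 1 ∧
    θ • r1 = r1' ∧ θ • r1' = r1 + r1' := by decide +kernel
theorem k_c5 : ∀ c ∈ invG, c ≠ og → av c r1 = r1 →
    mg (mg c (mg (mg (cg ρ3) c) (cg ρ3⁻¹)))
      (mg (mg (cg ρ3) (mg (mg (cg ρ3) c) (cg ρ3⁻¹))) (cg ρ3⁻¹)) = og →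
    ∃ a ∈ LV, c = cg a := by decide +kernel
theorem k_c6 : ∀ a ∈ LV, M4 a ∧ a.1 = 1 ∧ 16 ≤ (Fx a).card ∧ ∀ x : V, a • x = x → x ∈ F4 ∨
    ∃ x' ∈ [x, θ • x, θ • θ • x], ∃ w ∈ F4, rk1 (x' + w) ∧ ∃ c ∈ T3, c • (x' + w) = x' + w ∧
      a * (c * a * c⁻¹) * (a * (c * a * c⁻¹)) ≠ 1 := by decide +kernel
theorem fst_one {a : Γ} (h : a • r1 = r1) (h' : a • r1' = r1') : a.1 = 1 := by
  have : ∀ (s : S3) (u : W), te (s 0) u = r1 → te (s 1) u = r1' → s = 1 := by decide +kernel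
  rw [r1, smul_te] at h
  rw [r1', smul_te] at h'
  exact this _ _ h h'
theorem k_c7 : ∀ r ∈ LA, ∀ c ∈ cubG, c ≠ og → mg c (cg r) = mg (cg r) c → ∀ p : V, rk1 p →
    r • p = p → p + av c p + av c (av c p) = 0 → ∃ x, r • x = x ∧ av c x + x ≠ 0 ∧
      av c x + x ≠ p ∧ av c x + x ≠ av c p ∧ av c x + x ≠ p + av c p := by decide +kernel
theorem k_s3 : ∀ a b : S3, a * a * (a * a) = 1 → b * b * (b * b) = 1 →
    a * b * (a * b) * (a * b * (a * b)) = 1 → a = 1 ∨ b = 1 ∨ a = b := by decide +kernel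
theorem sign_of_nf {g : S6} (h : g * g = 1) (h4 : nf g = 4) : Perm.sign g = -1 := by
  rcases cls h with rfl | ⟨k, ⟨-, rfl⟩ | ⟨n, -⟩ | ⟨n, -⟩⟩
  · exact absurd h4 (by decide)
  · simp [τ0]
  · omega
  · omega
theorem nf_one : nf 1 = 6 := by decide

end X9
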