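import Cfsg.Agent.X9.Out

/-! Linear algebra in an elementary abelian group of order `256`. -/

set_option autoImplicit false

namespace X9
variable {U : Type*} [AddCommGroup U]

def cb (p p' : U) (b : Bool × Bool) : U := cond b.1 p 0 + cond b.2 p' 0
theorem cb_map (f : U →+ U) (p p' : U) (b : Bool × Bool) : f (cb p p' b) = cb (f p) (f p') b := by
  rcases b with ⟨_ | _, _ | _⟩ <;> simp [cb]
theorem cb_zero (b : Bool × Bool) : cb (0 : U) 0 b = 0 := by
  rcases b with ⟨_ | _, _ | _⟩ <;> simp [cb]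
theorem cb_inj (two : ∀ x : U, x + x = 0) {p p' : U} (h : p ≠ 0) (h' : p' ≠ 0) (n : p ≠ p') :
    Function.Injective (cb p p') := by
  have n' : p + p' ≠ 0 := fun e => n (add_left_cancel (a := p) (by rw [e, two]))
  rintro ⟨_ | _, _ | _⟩ ⟨_ | _, _ | _⟩ <;> simp [cb, h, h', n, n', h.symm, h'.symm, n.symm, n'.symm]

structure Pj (E : U →+ U) (p p' a a' b b' c c' : U) : Prop where
  n0 : p ≠ 0
  n1 : p' ≠ 0
  n2 : p ≠ p'
  e0 : E p = p
  e1 : E p' = p'
  a0 : E a = 0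
  a1 : E a' = 0
  b0 : E b = 0
  b1 : E b' = 0
  c0 : E c = 0
  c1 : E c' = 0

theorem Pj.ap {E : U →+ U} {p p' a a' b b' c c' : U} (h : Pj E p p' a a' b b' c c')
    (i j k l : Bool × Bool) : E (cb p p' i) = cb p p' i ∧ E (cb a a' j) = 0 ∧
      E (cb b b' k) = 0 ∧ E (cb c c' l) = 0 := by
  simp only [cb_map, h.e0, h.e1, h.a0, h.a1, h.b0, h.b1, h.c0, h.c1, cb_zero, and_self]

theorem span8 (two : ∀ x : U, x + x = 0) (card : Nat.card U = 256) {E1 E2 E3 E4 : U →+ U}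
    {a a' b b' c c' d d' : U} (h1 : Pj E1 a a' b b' c c' d d') (h2 : Pj E2 b b' a a' c c' d d')
    (h3 : Pj E3 c c' a a' b b' d d') (h4 : Pj E4 d d' a a' b b' c c') (u : U) :
    ∃ i j k l, u = cb a a' i + cb b b' j + cb c c' k + cb d d' l := by
  have : Finite U := Nat.finite_of_card_ne_zero (by omega)
  let Φ : (Bool × Bool) × (Bool × Bool) × (Bool × Bool) × (Bool × Bool) → U := fun x =>
    cb a a' x.1 + cb b b' x.2.1 + cb c c' x.2.2.1 + cb d d' x.2.2.2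
  have inj : Function.Injective Φ := by
    rintro ⟨i, j, k, l⟩ ⟨i', j', k', l'⟩ e
    have e1 := congrArg E1 e
    have e2 := congrArg E2 e
    have e3 := congrArg E3 e
    have e4 := congrArg E4 e
    simp only [Φ, map_add, h1.ap i j k l, h1.ap i' j' k' l', h2.ap j i k l, h2.ap j' i' k' l',
      h3.ap k i j l, h3.ap k' i' j' l', h4.ap l i j k, h4.ap l' i' j' k', add_zero,
      zero_add] at e1 e2 e3 e4
    rw [cb_inj two h1.n0 h1.n1 h1.n2 e1, cb_inj two h2.n0 h2.n1 h2.n2 e2,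
      cb_inj two h3.n0 h3.n1 h3.n2 e3, cb_inj two h4.n0 h4.n1 h4.n2 e4]
  obtain ⟨x, e⟩ := (inj.bijective_of_nat_card_le (by simp [card])).2 u
  exact ⟨_, _, _, _, e.symm⟩

abbrev zm (two : ∀ x : U, x + x = 0) : Module (ZMod 2) U :=
  AddCommGroup.zmodModule fun x => (two_nsmul x).trans (two x)
theorem c2 [Module (ZMod 2) U] {a b : U} (h : (1 : ZMod 2) • a = b) : a = b :=
  (one_smul (ZMod 2) a).symm.trans h

def E (g : U →+ U) : U →+ U := AddMonoidHom.id U + g + g.comp g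
theorem E_ap (g : U →+ U) (u : U) : E g u = u + g u + g (g u) := rfl
theorem two' (two : ∀ x : U, x + x = 0) (x y : U) : x + (x + y) = y := by
  rw [← add_assoc, two, zero_add]
theorem E_fix (two : ∀ x : U, x + x = 0) {g : U →+ U} {u : U} (h : g u = u) : E g u = u := by
  rw [E_ap, h, h, two, zero_add]
theorem eq_of_add (two : ∀ x : U, x + x = 0) {x y : U} (h : x + y = 0) : x = y :=
  add_left_cancel (a := y) (by rw [add_comm, h, two])

theorem small (two : ∀ x : U, x + x = 0) {T I g : U →+ U} {p : U} (p0 : p ≠ 0) (N : E g p = 0)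
    (Tg : ∀ u, T (g u) = g (T u)) (TI : ∀ u, T (I u) = I (T u))
    (Ig : ∀ u, I (g u) = g (g (I u))) (g3 : ∀ u, g (g (g u)) = u) (T3 : ∀ u, T (T (T u)) = u)
    (I2 : ∀ u, I (I u) = u) (hT : ∃ b, T p = cb p (g p) b) (hI : ∃ b, I p = cb p (g p) b) :
    T p = p := by
  obtain ⟨b, hI⟩ := hI
  have Nq : E g (I p) = 0 := by
    have : E g (g p) = 0 := by
      rw [← map_zero g, ← N]; simp only [E_ap, map_add]
    rw [hI, cb_map, N, this, cb_zero]
  have key : g (I p) ≠ g (g (I p)) := fun e => p0 (by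
    have e' : g (I p) = I p := by rw [← g3 (g (I p)), ← e, ← e, e, ← e, e, g3]
    rw [E_fix two e'] at Nq
    rw [← I2 p, Nq, map_zero])
  have e2 : p + g p = g (g p) := eq_of_add two N
  obtain ⟨⟨_ | _, _ | _⟩, hT⟩ := hT <;> simp only [cb, cond, add_zero, zero_add] at hT
  · exact absurd (by rw [← T3 p, hT, map_zero, map_zero]) p0
  · refine absurd ?_ key
    rw [← Ig, ← hT, ← TI, hI, cb_map, cb_map, Tg, hT]
  · exact hT
  · refine absurd ?_ key
    rw [e2] at hT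
    calc g (I p) = I (T p) := by rw [hT, Ig, Ig, g3]
      _ = T (I p) := (TI p).symm
      _ = _ := by rw [hI, cb_map, cb_map, cb_map, Tg, hT]

section
variable (two : ∀ x : U, x + x = 0) {X Y : U →+ U} (XY : ∀ u, X (Y u) = Y (X u))
  (X3 : ∀ u, X (X (X u)) = u) (Y3 : ∀ u, Y (Y (Y u)) = u)
include two XY X3 Y3

def ff (g : U →+ U) (u : U) : U := g u + g (g u)

theorem split {u : U} (h : ff X (ff Y u) ≠ 0) :
    ∃ p, p ≠ 0 ∧ E X p = 0 ∧ E Y p = 0 ∧ (X (Y p) = p ∨ X p = Y p) := by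
  let _ := zm two
  by_cases e : E (X.comp Y) (ff X (ff Y u)) = 0
  · refine ⟨E (X.comp (Y.comp Y)) (ff X (ff Y u)), fun e' => h ?_, ?_, ?_, Or.inr ?_⟩
    · rw [← add_zero (0 : U)]
      nth_rewrite 1 [← e]
      rw [← e']
      simp only [ff, E_ap, map_add, AddMonoidHom.comp_apply, XY, X3, Y3]
      apply c2; match_scalars <;> decide
    all_goals simp only [ff, E_ap, map_add, AddMonoidHom.comp_apply, XY, X3, Y3]; apply c2; match_scalars <;> decide
  · refine ⟨_, e, ?_, ?_, Or.inl ?_⟩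
    all_goals simp only [ff, E_ap, map_add, AddMonoidHom.comp_apply, XY, X3, Y3]; apply c2; match_scalars <;> decide

theorem c1 (card : Nat.card U = 256) {T I K : U →+ U} (TX : ∀ u, T (X u) = X (T u))
    (TY : ∀ u, T (Y u) = Y (T u)) (TI : ∀ u, T (I u) = I (T u)) (T3 : ∀ u, T (T (T u)) = u)
    (IX : ∀ u, I (X u) = X (X (I u))) (IY : ∀ u, I (Y u) = Y (Y (I u))) (I2 : ∀ u, I (I u) = u)
    (KX : ∀ u, Y (K u) = K (X u)) (KY : ∀ u, X (K u) = K (Y (Y u))) (K0 : ∀ u, K u = 0 → u = 0)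
    (T1 : ¬ ∀ u, T u = u) : (∀ u, ff X (ff Y u) = 0) ∨
      ∀ u, ff (X.comp Y) (ff (X.comp (Y.comp Y)) u) = 0 := by
  let _ := zm two
  by_contra hc
  push Not at hc
  obtain ⟨⟨u, hu⟩, ⟨w, hw⟩⟩ := hc
  have YX : ∀ u, Y (X u) = X (Y u) := fun u => (XY u).symm
  have EK : ∀ v, E X (K v) = K (E Y v) := fun v => by
    simp only [E_ap, map_add, KY, Y3]; abel
  have EK' : ∀ v, E Y (K v) = K (E X v) := fun v => by simp only [E_ap, map_add, KX]
  have y3 : ∀ v, X (Y v) = v → Y v = X (X v) := fun v h => by rw [← X3 (Y v), h]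
  obtain ⟨c, d, ⟨c0, cN, cy⟩, d0, dN, dy⟩ : ∃ c d, (c ≠ 0 ∧ E X c = 0 ∧ Y c = X (X c)) ∧
      d ≠ 0 ∧ E X d = 0 ∧ Y d = X d := by
    obtain ⟨p, p0, nX, nY, h | h⟩ := split two XY X3 Y3 hu
    · refine ⟨p, K p, ⟨p0, nX, y3 _ h⟩, mt (K0 p) p0, by rw [EK, nY, map_zero], ?_⟩
      rw [KX, KY, y3 _ h, YX, YX, y3 _ h, X3]
    · refine ⟨K p, p, ⟨mt (K0 p) p0, by rw [EK, nY, map_zero], ?_⟩, p0, nX, h.symm⟩
      rw [KX, KY, KY, Y3, h]
  obtain ⟨a, b, ⟨a0, aN, ax⟩, b0, bN, by'⟩ : ∃ a b, (a ≠ 0 ∧ E Y a = 0 ∧ X a = a) ∧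
      b ≠ 0 ∧ E X b = 0 ∧ Y b = b := by
    obtain ⟨p, p0, nX, -, h | h⟩ := split two (X := X.comp Y) (Y := X.comp (Y.comp Y))
      (by simp [XY]) (by simp [XY, X3, Y3]) (by simp [XY, X3, Y3]) hw
    · simp only [AddMonoidHom.comp_apply, XY, Y3] at h
      have h' : X p = p := by rw [← h, X3, h]
      have nY : E Y p = 0 := by simpa only [E_ap, AddMonoidHom.comp_apply, XY, h'] using nX
      exact ⟨p, K p, ⟨p0, nY, h'⟩, mt (K0 p) p0, by rw [EK, nY, map_zero], by rw [KX, h']⟩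
    · simp only [AddMonoidHom.comp_apply] at h
      have h' : Y p = p := by
        have := congrArg (fun v => Y (Y (X (X v)))) h
        simp only [X3, Y3] at this
        exact this.symm
      have nX' : E X p = 0 := by simpa only [E_ap, AddMonoidHom.comp_apply, YX, h'] using nX
      exact ⟨K p, p, ⟨mt (K0 p) p0, by rw [EK', nX', map_zero], by rw [KY, h', h']⟩, p0, nX', h'⟩
  have nz : ∀ {g : U →+ U} {p : U}, (∀ u, g (g (g u)) = u) → p ≠ 0 → E g p = 0 →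
      g p ≠ 0 ∧ p ≠ g p := fun {g p} g3 p0 N =>
    ⟨fun e => p0 (by rw [← g3 p, e, map_zero, map_zero]),
      fun e => p0 (by rw [← N, E_fix two e.symm])⟩
  have sq : ∀ {g : U →+ U} {p : U}, E g p = 0 → g (g p) = p + g p := fun N => (eq_of_add two N).symm
  have aN' := sq aN
  have bN' := sq bN
  have cN' := sq cN
  have dN' := sq dN
  have xa : X (Y a) = Y a := by rw [XY, ax]
  have h1 : Pj (E X) a (Y a) b (X b) c (X c) d (X d) := by
    refine ⟨a0, (nz Y3 a0 aN).1, (nz Y3 a0 aN).2, ?_, ?_, ?_, ?_, ?_, ?_, ?_, ?_⟩ <;>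
    simp only [E_ap, map_add, ax, xa, bN', cN', dN'] <;>
    apply c2 <;> match_scalars <;> decide
  have h2 : Pj (E Y) b (X b) a (Y a) c (X c) d (X d) := by
    refine ⟨b0, (nz X3 b0 bN).1, (nz X3 b0 bN).2, ?_, ?_, ?_, ?_, ?_, ?_, ?_, ?_⟩ <;>
    simp only [E_ap, map_add, YX, aN', by', cy, dy, cN', dN'] <;>
    apply c2 <;> match_scalars <;> decide
  have h3 : Pj (E (X.comp Y)) c (X c) a (Y a) b (X b) d (X d) := by
    refine ⟨c0, (nz X3 c0 cN).1, (nz X3 c0 cN).2, ?_, ?_, ?_, ?_, ?_, ?_, ?_, ?_⟩ <;>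
    simp only [E_ap, AddMonoidHom.comp_apply, map_add, YX, ax, xa, aN', by', cy, dy, bN', cN', dN'] <;>
    apply c2 <;> match_scalars <;> decide
  have h4 : Pj (E (X.comp (Y.comp Y))) d (X d) a (Y a) b (X b) c (X c) := by
    refine ⟨d0, (nz X3 d0 dN).1, (nz X3 d0 dN).2, ?_, ?_, ?_, ?_, ?_, ?_, ?_, ?_⟩ <;>
    simp only [E_ap, AddMonoidHom.comp_apply, map_add, YX, ax, xa, aN', by', cy, dy, bN', cN', dN'] <;>
    apply c2 <;> match_scalars <;> decide
  have sp := span8 two card h1 h2 h3 h4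
  have TE : ∀ g : U →+ U, (∀ u, T (g u) = g (T u)) → ∀ u, E g (T u) = T (E g u) := fun g h u => by
    simp only [E_ap, map_add, h]
  have IE : ∀ g : U →+ U, (∀ u, I (g u) = g (g (I u))) → (∀ u, g (g (g u)) = u) →
      ∀ u, E g (I u) = I (E g u) := fun g h g3 u => by
    simp only [E_ap, map_add, h, g3]; abel
  have pr : ∀ v, (E X v = v → ∃ i, v = cb a (Y a) i) ∧ (E Y v = v → ∃ i, v = cb b (X b) i) ∧
      (E (X.comp Y) v = v → ∃ i, v = cb c (X c) i) ∧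
      (E (X.comp (Y.comp Y)) v = v → ∃ i, v = cb d (X d) i) := fun v => by
    obtain ⟨i, j, k, l, e⟩ := sp v
    refine ⟨fun h => ⟨i, ?_⟩, fun h => ⟨j, ?_⟩, fun h => ⟨k, ?_⟩, fun h => ⟨l, ?_⟩⟩ <;>
      rw [← h, e] <;> simp only [map_add, h1.ap i j k l, h2.ap j i k l, h3.ap k i j l,
        h4.ap l i j k, add_zero, zero_add]
  have ta := small two a0 aN TY TI IY Y3 T3 I2 ((pr _).1 (by rw [TE _ TX, h1.e0]))
    ((pr _).1 (by rw [IE _ IX X3, h1.e0]))
  have tb := small two b0 bN TX TI IX X3 T3 I2 ((pr _).2.1 (by rw [TE _ TY, h2.e0]))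
    ((pr _).2.1 (by rw [IE _ IY Y3, h2.e0]))
  have tc := small two c0 cN TX TI IX X3 T3 I2
    ((pr _).2.2.1 (by rw [TE _ (by simp [TX, TY]), h3.e0]))
    ((pr _).2.2.1 (by rw [IE _ (by simp [IX, IY, XY]) (by simp [XY, X3, Y3]), h3.e0]))
  have td := small two d0 dN TX TI IX X3 T3 I2
    ((pr _).2.2.2 (by rw [TE _ (by simp [TX, TY]), h4.e0]))
    ((pr _).2.2.2 (by rw [IE _ (by simp [IX, IY, XY]) (by simp [XY, X3, Y3]), h4.e0]))
  refine T1 fun v => ?_
  obtain ⟨i, j, k, l, rfl⟩ := sp v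
  simp only [map_add, cb_map, TX, TY, ta, tb, tc, td]
end

end X9
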