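import Mathlib

/-! The module `V₂ ⊗ V₄` for `S₃ × S₆` over `F₂`, with coded permutations. -/

set_option autoImplicit false
set_option maxRecDepth 100000
open Equiv

namespace X9

abbrev S6 := Perm (Fin 6)
abbrev S3 := Perm (Fin 3)
abbrev Γ := S3 × S6

def ap (c i : ℕ) : ℕ := Nat.land (Nat.shiftRight c (Nat.mul 3 i)) 7
theorem ap_eq (c i : ℕ) : ap c i = c / 8 ^ i % 8 := by
  show (c >>> (3 * i)) &&& (2 ^ 3 - 1) = _
  rw [Nat.and_two_pow_sub_one_eq_mod, Nat.shiftRight_eq_div_pow, pow_mul]; rfl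
def mc (c d : ℕ) : ℕ := ap c (ap d 0) + 8 * ap c (ap d 1) + 64 * ap c (ap d 2) +
  512 * ap c (ap d 3) + 4096 * ap c (ap d 4) + 32768 * ap c (ap d 5)
def cd (g : S6) : ℕ := (g 0).val + 8 * (g 1).val + 64 * (g 2).val + 512 * (g 3).val +
  4096 * (g 4).val + 32768 * (g 5).val
def cd3 (g : S3) : ℕ := (g 0).val + 8 * (g 1).val + 64 * (g 2).val + 181760
def idc : ℕ := 181896

theorem ap_cd (g : S6) (i : Fin 6) : ap (cd g) i.val = (g i).val := by
  have h0 := (g 0).isLt; have h1 := (g 1).isLt; have h2 := (g 2).isLt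
  have h3 := (g 3).isLt; have h4 := (g 4).isLt; have h5 := (g 5).isLt
  fin_cases i <;> simp [ap_eq, cd] <;> omega

theorem ap_cd3 (g : S3) (i : Fin 3) : ap (cd3 g) i.val = (g i).val := by
  have h0 := (g 0).isLt; have h1 := (g 1).isLt; have h2 := (g 2).isLt
  fin_cases i <;> simp [ap_eq, cd3] <;> omega

theorem ap_cd3' (g : S3) : ap (cd3 g) 3 = 3 ∧ ap (cd3 g) 4 = 4 ∧ ap (cd3 g) 5 = 5 := by
  have h0 := (g 0).isLt; have h1 := (g 1).isLt; have h2 := (g 2).isLt
  simp [ap_eq, cd3]; omega

theorem mc_cd (g h : S6) : mc (cd g) (cd h) = cd (g * h) := by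
  have a0 : ap (cd h) 0 = (h 0).val := ap_cd h 0
  have a1 : ap (cd h) 1 = (h 1).val := ap_cd h 1
  have a2 : ap (cd h) 2 = (h 2).val := ap_cd h 2
  have a3 : ap (cd h) 3 = (h 3).val := ap_cd h 3
  have a4 : ap (cd h) 4 = (h 4).val := ap_cd h 4
  have a5 : ap (cd h) 5 = (h 5).val := ap_cd h 5
  rw [mc, a0, a1, a2, a3, a4, a5]
  simp only [ap_cd]; rfl

theorem mc_cd3 (g h : S3) : mc (cd3 g) (cd3 h) = cd3 (g * h) := by
  have a0 : ap (cd3 h) 0 = (h 0).val := ap_cd3 h 0
  have a1 : ap (cd3 h) 1 = (h 1).val := ap_cd3 h 1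
  have a2 : ap (cd3 h) 2 = (h 2).val := ap_cd3 h 2
  obtain ⟨a3, a4, a5⟩ := ap_cd3' h
  obtain ⟨b3, b4, b5⟩ := ap_cd3' g
  rw [mc, a0, a1, a2, a3, a4, a5, b3, b4, b5]
  simp only [ap_cd3]; simp [cd3]

theorem cd_inj {g h : S6} : cd g = cd h ↔ g = h :=
  ⟨fun e => by ext i; rw [← ap_cd, ← ap_cd, e], fun e => e ▸ rfl⟩
theorem cd3_inj {g h : S3} : cd3 g = cd3 h ↔ g = h :=
  ⟨fun e => by ext i; rw [← ap_cd3, ← ap_cd3, e], fun e => e ▸ rfl⟩
theorem cd_one : cd 1 = idc := by decide
theorem cd3_one : cd3 1 = idc := by decide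
theorem cd_eq_id {g : S6} : cd g = idc ↔ g = 1 := by rw [← cd_one, cd_inj]
theorem cd3_eq_id {g : S3} : cd3 g = idc ↔ g = 1 := by rw [← cd3_one, cd3_inj]

instance (priority := high) dec6 : DecidableEq S6 := fun _ _ => decidable_of_iff _ cd_inj
instance (priority := high) dec3 : DecidableEq S3 := fun _ _ => decidable_of_iff _ cd3_inj

abbrev C := ℕ × ℕ
def cg (a : Γ) : C := (cd3 a.1, cd a.2)
def mg (a b : C) : C := (mc a.1 b.1, mc a.2 b.2)
def og : C := (idc, idc)
theorem mg_cg (a b : Γ) : mg (cg a) (cg b) = cg (a * b) := by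
  simp [mg, cg, mc_cd, mc_cd3]
theorem cg_inj {a b : Γ} : cg a = cg b ↔ a = b := by
  simp [cg, cd_inj, cd3_inj, Prod.ext_iff]
theorem cg_og {a : Γ} : cg a = og ↔ a = 1 := by
  simp [cg, og, cd_eq_id, cd3_eq_id, Prod.ext_iff]
theorem cg1 {a : Γ} : (cg a).1 = idc ↔ a.1 = 1 := cd3_eq_id
theorem cg2 {a : Γ} : (cg a).2 = idc ↔ a.2 = 1 := cd_eq_id

def allc : List ℕ :=
  [181896, 153224, 178312, 120968, 146056, 117384, 181448, 152776, 174280, 88264, 142024, 84680,
   177416, 120072, 173832, 87816, 109320, 80648, 144712, 116040, 141128, 83784, 108872, 80200,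
   181840, 153168, 178256, 120912, 146000, 117328, 180944, 152272, 170192, 55504, 137936, 51920,
   176912, 119568, 169744, 55056, 105232, 47888, 144208, 115536, 137040, 51024, 104784, 47440,
   181336, 152664, 174168, 88152, 141912, 84568, 180888, 152216, 170136, 55448, 137880, 51864,
   172824, 86808, 169240, 54552, 72472, 43800, 140120, 82776, 136536, 50520, 72024, 43352,
   177248, 119904, 173664, 87648, 109152, 80480, 176800, 119456, 169632, 54944, 105120, 47776,
   172768, 86752, 169184, 54496, 72416, 43744, 107360, 78688, 103776, 46432, 71520, 42848,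
   144488, 115816, 140904, 83560, 108648, 79976, 144040, 115368, 136872, 50856, 104616, 47272,
   140008, 82664, 136424, 50408, 71912, 43240, 107304, 78632, 103720, 46376, 71464, 42792,
   181889, 153217, 178305, 120961, 146049, 117377, 181441, 152769, 174273, 88257, 142017, 84673,
   177409, 120065, 173825, 87809, 109313, 80641, 144705, 116033, 141121, 83777, 108865, 80193,
   181777, 153105, 178193, 120849, 145937, 117265, 180433, 151761, 166097, 22737, 133841, 19153,
   176401, 119057, 165649, 22289, 101137, 15121, 143697, 115025, 132945, 18257, 100689, 14673,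
   181273, 152601, 174105, 88089, 141849, 84505, 180377, 151705, 166041, 22681, 133785, 19097,
   172313, 86297, 165145, 21785, 68377, 11033, 139609, 82265, 132441, 17753, 67929, 10585,
   177185, 119841, 173601, 87585, 109089, 80417, 176289, 118945, 165537, 22177, 101025, 15009,
   172257, 86241, 165089, 21729, 68321, 10977, 106849, 78177, 99681, 13665, 67425, 10081,
   144425, 115753, 140841, 83497, 108585, 79913, 143529, 114857, 132777, 18089, 100521, 14505,
   139497, 82153, 132329, 17641, 67817, 10473, 106793, 78121, 99625, 13609, 67369, 10025,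
   181826, 153154, 178242, 120898, 145986, 117314, 180930, 152258, 170178, 55490, 137922, 51906,
   176898, 119554, 169730, 55042, 105218, 47874, 144194, 115522, 137026, 51010, 104770, 47426,
   181770, 153098, 178186, 120842, 145930, 117258, 180426, 151754, 166090, 22730, 133834, 19146,
   176394, 119050, 165642, 22282, 101130, 15114, 143690, 115018, 132938, 18250, 100682, 14666,
   180762, 152090, 170010, 55322, 137754, 51738, 180314, 151642, 165978, 22618, 133722, 19034,
   168218, 53530, 164634, 21274, 35610, 6938, 135514, 49498, 131930, 17242, 35162, 6490, 176674,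
   119330, 169506, 54818, 104994, 47650, 176226, 118882, 165474, 22114, 100962, 14946, 168162,
   53474, 164578, 21218, 35554, 6882, 102754, 45410, 99170, 13154, 34658, 5986, 143914, 115242,
   136746, 50730, 104490, 47146, 143466, 114794, 132714, 18026, 100458, 14442, 135402, 49386,
   131818, 17130, 35050, 6378, 102698, 45354, 99114, 13098, 34602, 5930, 181315, 152643, 174147,
   88131, 141891, 84547, 180867, 152195, 170115, 55427, 137859, 51843, 172803, 86787, 169219,
   54531, 72451, 43779, 140099, 82755, 136515, 50499, 72003, 43331, 181259, 152587, 174091,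
   88075, 141835, 84491, 180363, 151691, 166027, 22667, 133771, 19083, 172299, 86283, 165131,
   21771, 68363, 11019, 139595, 82251, 132427, 17739, 67915, 10571, 180755, 152083, 170003,
   55315, 137747, 51731, 180307, 151635, 165971, 22611, 133715, 19027, 168211, 53523, 164627,
   21267, 35603, 6931, 135507, 49491, 131923, 17235, 35155, 6483, 172579, 86563, 168995, 54307,
   72227, 43555, 172131, 86115, 164963, 21603, 68195, 10851, 168099, 53411, 164515, 21155,
   35491, 6819, 69987, 41315, 66403, 9059, 34147, 5475, 139819, 82475, 136235, 50219, 71723,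
   43051, 139371, 82027, 132203, 17515, 67691, 10347, 135339, 49323, 131755, 17067, 34987, 6315,
   69931, 41259, 66347, 9003, 34091, 5419, 177220, 119876, 173636, 87620, 109124, 80452, 176772,
   119428, 169604, 54916, 105092, 47748, 172740, 86724, 169156, 54468, 72388, 43716, 107332,
   78660, 103748, 46404, 71492, 42820, 177164, 119820, 173580, 87564, 109068, 80396, 176268,
   118924, 165516, 22156, 101004, 14988, 172236, 86220, 165068, 21708, 68300, 10956, 106828,
   78156, 99660, 13644, 67404, 10060, 176660, 119316, 169492, 54804, 104980, 47636, 176212,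
   118868, 165460, 22100, 100948, 14932, 168148, 53460, 164564, 21204, 35540, 6868, 102740,
   45396, 99156, 13140, 34644, 5972, 172572, 86556, 168988, 54300, 72220, 43548, 172124, 86108,
   164956, 21596, 68188, 10844, 168092, 53404, 164508, 21148, 35484, 6812, 69980, 41308, 66396,
   9052, 34140, 5468, 107052, 78380, 103468, 46124, 71212, 42540, 106604, 77932, 99436, 13420,
   67180, 9836, 102572, 45228, 98988, 12972, 34476, 5804, 69868, 41196, 66284, 8940, 34028,
   5356, 144453, 115781, 140869, 83525, 108613, 79941, 144005, 115333, 136837, 50821, 104581,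
   47237, 139973, 82629, 136389, 50373, 71877, 43205, 107269, 78597, 103685, 46341, 71429,
   42757, 144397, 115725, 140813, 83469, 108557, 79885, 143501, 114829, 132749, 18061, 100493,
   14477, 139469, 82125, 132301, 17613, 67789, 10445, 106765, 78093, 99597, 13581, 67341, 9997,
   143893, 115221, 136725, 50709, 104469, 47125, 143445, 114773, 132693, 18005, 100437, 14421,
   135381, 49365, 131797, 17109, 35029, 6357, 102677, 45333, 99093, 13077, 34581, 5909, 139805,
   82461, 136221, 50205, 71709, 43037, 139357, 82013, 132189, 17501, 67677, 10333, 135325,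
   49309, 131741, 17053, 34973, 6301, 69917, 41245, 66333, 8989, 34077, 5405, 107045, 78373,
   103461, 46117, 71205, 42533, 106597, 77925, 99429, 13413, 67173, 9829, 102565, 45221, 98981,
   12965, 34469, 5797, 69861, 41189, 66277, 8933, 34021, 5349]
def invc : List ℕ :=
  [181896, 153224, 178312, 117384, 181448, 152776, 173832, 109320, 83784, 80200, 181840, 153168,
   178256, 117328, 180888, 152216, 172824, 82776, 169632, 105120, 169184, 71520, 50856, 47272,
   50408, 42792, 181889, 153217, 178305, 117377, 181441, 152769, 173825, 109313, 83777, 80193,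
   181770, 153098, 178186, 117258, 180762, 152090, 169506, 104994, 50730, 47146, 180363, 151691,
   172299, 82251, 180307, 151635, 168099, 69987, 49323, 41259, 165516, 101004, 165068, 67404,
   165460, 100948, 164508, 66396, 34476, 34028, 18061, 14477, 17613, 9997, 18005, 14421, 17053,
   8989, 5797, 5349]
def cubc : List ℕ :=
  [181896, 120968, 146056, 174280, 84680, 177416, 87816, 116040, 141128, 180944, 169744, 51024,
   181336, 170136, 51864, 173664, 176800, 54944, 83560, 115368, 136872, 181777, 120849, 145937,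
   180377, 86297, 139609, 165537, 68321, 99681, 18089, 10473, 13609, 181826, 120898, 145986,
   180426, 165642, 18250, 35610, 6490, 53474, 13154, 135402, 99114, 180867, 86787, 140099,
   181259, 166027, 19083, 6931, 35155, 54307, 10851, 136235, 67691, 169604, 72388, 103748,
   173580, 176268, 22156, 21204, 45396, 43548, 21596, 107052, 77932, 50821, 43205, 46341, 83469,
   114829, 132749, 131797, 102677, 71709, 132189, 78373, 106597]

theorem mem_allc (g : S6) : cd g ∈ allc := by
  have : ∀ g : S6, allc.any (Nat.beq (cd g)) = true := by decide +kernel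
  obtain ⟨c, h, e⟩ := List.any_eq_true.1 (this g)
  rwa [Nat.eq_of_beq_eq_true e]
theorem k_inv : ∀ c ∈ allc, mc c c = idc → c ∈ invc := by decide +kernel
theorem k_cub : ∀ c ∈ allc, mc c (mc c c) = idc → c ∈ cubc := by decide +kernel
theorem mem_invc {g : S6} (h : g * g = 1) : cd g ∈ invc :=
  k_inv _ (mem_allc g) (by rw [mc_cd, h, cd_one])
theorem mem_cubc {g : S6} (h : g * (g * g) = 1) : cd g ∈ cubc :=
  k_cub _ (mem_allc g) (by rw [mc_cd, mc_cd, h, cd_one])
def inv3 : List ℕ := [181896, 181840, 181889, 181770]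
def cub3 : List ℕ := [181896, 181777, 181826]
theorem mem_inv3 : ∀ g : S3, g * g = 1 → cd3 g ∈ inv3 := by decide +kernel
theorem mem_cub3 : ∀ g : S3, g * (g * g) = 1 → cd3 g ∈ cub3 := by decide +kernel
def invG : List C := inv3.flatMap fun a => invc.map fun b => (a, b)
def cubG : List C := cub3.flatMap fun a => cubc.map fun b => (a, b)
theorem mem_invG {a : Γ} (h : a * a = 1) : cg a ∈ invG := by
  simp only [invG, List.mem_flatMap, List.mem_map]
  exact ⟨_, mem_inv3 a.1 (congrArg Prod.fst h), _, mem_invc (congrArg Prod.snd h), rfl⟩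
theorem mem_cubG {a : Γ} (h : a * (a * a) = 1) : cg a ∈ cubG := by
  simp only [cubG, List.mem_flatMap, List.mem_map]
  exact ⟨_, mem_cub3 a.1 (congrArg Prod.fst h), _, mem_cubc (congrArg Prod.snd h), rfl⟩

/-- the number of fixed points -/
def nfc (c : ℕ) : ℕ := cond ((ap c 0).beq 0) 1 0 + cond ((ap c 1).beq 1) 1 0 +
  cond ((ap c 2).beq 2) 1 0 + cond ((ap c 3).beq 3) 1 0 + cond ((ap c 4).beq 4) 1 0 +
  cond ((ap c 5).beq 5) 1 0
def nf (g : S6) : ℕ := nfc (cd g)
theorem nfc_cd (g : S6) : nfc (cd g) = nf g := rfl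
theorem nfc_cg (a : Γ) : nfc (cg a).2 = nf a.2 := rfl

/-! ### The module -/

@[ext] structure W where
  a : Bool
  b : Bool
  c : Bool
  d : Bool
deriving DecidableEq

def xr (a b : Bool) : Bool := Bool.rec b (Bool.rec true false b) a
theorem xr_eq : ∀ a b, xr a b = xor a b := by decide
instance : Add W := ⟨fun x y => ⟨xr x.a y.a, xr x.b y.b, xr x.c y.c, xr x.d y.d⟩⟩
instance : Zero W := ⟨⟨false, false, false, false⟩⟩
instance : Neg W := ⟨id⟩

def allW : List W := [false, true].flatMap fun a => [false, true].flatMap fun b =>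
  [false, true].flatMap fun c => [false, true].map fun d => ⟨a, b, c, d⟩
theorem mem_allW (x : W) : x ∈ allW := by
  rcases x with ⟨_ | _, _ | _, _ | _, _ | _⟩ <;> decide
instance : Fintype W := ⟨⟨allW, by decide⟩, mem_allW⟩
instance (priority := high) decAllW (p : W → Prop) [DecidablePred p] : Decidable (∀ x, p x) :=
  decidable_of_iff (∀ x ∈ allW, p x) ⟨fun h x => h x (mem_allW x), fun h x _ => h x⟩
instance (priority := high) decExW (p : W → Prop) [DecidablePred p] : Decidable (∃ x, p x) :=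
  decidable_of_iff (∃ x ∈ allW, p x) ⟨fun ⟨x, _, h⟩ => ⟨x, h⟩, fun ⟨x, h⟩ => ⟨x, mem_allW x, h⟩⟩

instance : AddCommGroup W where
  add_assoc := by decide +kernel
  zero_add := by decide +kernel
  add_zero := by decide +kernel
  nsmul := nsmulRec
  zsmul := zsmulRec
  neg_add_cancel := by decide +kernel
  add_comm := by decide +kernel

abbrev V := W × W
def allV : List V := allW.flatMap fun a => allW.map fun b => (a, b)
theorem mem_allV (x : V) : x ∈ allV := by
  simp only [allV, List.mem_flatMap, List.mem_map]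
  exact ⟨_, mem_allW x.1, _, mem_allW x.2, rfl⟩
instance (priority := high) decAllV (p : V → Prop) [DecidablePred p] : Decidable (∀ x, p x) :=
  decidable_of_iff (∀ x ∈ allV, p x) ⟨fun h x => h x (mem_allV x), fun h x _ => h x⟩
instance (priority := high) decExV (p : V → Prop) [DecidablePred p] : Decidable (∃ x, p x) :=
  decidable_of_iff (∃ x ∈ allV, p x) ⟨fun ⟨x, _, h⟩ => ⟨x, h⟩, fun ⟨x, h⟩ => ⟨x, mem_allV x, h⟩⟩

theorem W2 : ∀ x : W, x + x = 0 := by decide +kernel
theorem V2 (x : V) : x + x = 0 := Prod.ext (W2 _) (W2 _)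
theorem V2' (x y : V) : x + (x + y) = y := by rw [← add_assoc, V2, zero_add]
theorem negV (x : V) : -x = x := neg_eq_of_add_eq_zero_left (V2 x)
theorem cardV : Nat.card V = 256 := by
  rw [Nat.card_prod, Nat.card_eq_fintype_card]; rfl

def pt : ℕ → W
  | 0 => ⟨false, false, false, false⟩
  | 1 => ⟨true, false, false, false⟩
  | 2 => ⟨false, true, false, false⟩
  | 3 => ⟨true, true, true, true⟩
  | 4 => ⟨true, true, false, true⟩
  | _ => ⟨true, true, true, false⟩
def du (i j : ℕ) : W := pt i + pt j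
def lin (v0 v1 v2 v3 x : W) : W :=
  cond x.a v0 0 + cond x.b v1 0 + (cond x.c v2 0 + cond x.d v3 0)
def ac (c : ℕ) (x : W) : W := lin (du (ap c 0) (ap c 1)) (du (ap c 0) (ap c 2))
  (du (ap c 3) (ap c 4)) (du (ap c 3) (ap c 5)) x
def te : ℕ → W → V
  | 0, u => (u, 0)
  | 1, u => (0, u)
  | _, u => (u, u)
def av (c : C) (x : V) : V := te (ap c.1 0) (ac c.2 x.1) + te (ap c.1 1) (ac c.2 x.2)

theorem cond_xr {U : Type*} [AddCommGroup U] (h2 : ∀ x : U, x + x = 0) (a b : Bool) (v : U) :
    cond (xr a b) v 0 = cond a v 0 + cond b v 0 := by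
  cases a <;> cases b <;> simp [h2, xr_eq]
theorem ac_add (c : ℕ) (x y : W) : ac c (x + y) = ac c x + ac c y := by
  show lin _ _ _ _ ⟨xr x.a y.a, xr x.b y.b, xr x.c y.c, xr x.d y.d⟩ = _
  simp only [ac, lin, cond_xr W2]; abel
theorem ac_zero (c : ℕ) : ac c 0 = 0 := by
  have := ac_add c 0 0
  rwa [add_zero, W2] at this
theorem te_add (k : ℕ) (u v : W) : te k (u + v) = te k u + te k v := by
  rcases k with _ | _ | k <;> simp [te]
theorem k_du : ∀ c ∈ allc, ∀ i < 6, ∀ j < 6, ac c (du i j) = du (ap c i) (ap c j) := by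
  decide +kernel
theorem ac_du (g : S6) (i j : Fin 6) : ac (cd g) (du i j) = du (g i) (g j) := by
  rw [k_du _ (mem_allc g) _ i.isLt _ j.isLt, ap_cd, ap_cd]
theorem ex_du : ∀ u : W, ∃ i j : Fin 6, u = du i j := by decide +kernel
theorem av_te (a : Γ) (k : Fin 3) (u : W) : av (cg a) (te k u) = te (a.1 k) (ac (cd a.2) u) := by
  have a0 : ap (cd3 a.1) 0 = (a.1 0).val := ap_cd3 a.1 0
  have a1 : ap (cd3 a.1) 1 = (a.1 1).val := ap_cd3 a.1 1
  have t0 : ∀ k, te k 0 = 0 := fun k => by rcases k with _ | _ | k <;> rfl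
  have t3 : ∀ (g : S3) (u : W), te (g 0) u + te (g 1) u = te (g 2) u := by decide +kernel
  simp only [av, cg, a0, a1]
  fin_cases k
  · show te _ (ac _ u) + te _ (ac _ 0) = _
    rw [ac_zero, t0, add_zero]; rfl
  · show te _ (ac _ 0) + te _ (ac _ u) = _
    rw [ac_zero, t0, zero_add]; rfl
  · exact t3 _ _
theorem av_add (c : C) (x y : V) : av c (x + y) = av c x + av c y := by
  simp only [av, Prod.fst_add, Prod.snd_add, ac_add, te_add]; abel
theorem te_split (x : V) : x = te (0 : Fin 3) x.1 + te (1 : Fin 3) x.2 := by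
  show x = te 0 x.1 + te 1 x.2
  simp [te]
theorem ac_mul (g h : S6) (u : W) : ac (cd (g * h)) u = ac (cd g) (ac (cd h) u) := by
  obtain ⟨i, j, rfl⟩ := ex_du u
  simp only [ac_du]; rfl
theorem ac_one (u : W) : ac (cd 1) u = u := by
  obtain ⟨i, j, rfl⟩ := ex_du u
  simp only [ac_du]; rfl

instance : DistribMulAction Γ V where
  smul a x := av (cg a) x
  one_smul x := by
    show av (cg 1) x = x
    conv_lhs => rw [te_split x, av_add, av_te, av_te]
    simp only [Prod.fst_one, Prod.snd_one, ac_one, Perm.coe_one, id]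
    exact (te_split x).symm
  mul_smul a b x := by
    show av (cg (a * b)) x = av (cg a) (av (cg b) x)
    rw [te_split x]
    simp only [av_add, av_te, Prod.fst_mul, Prod.snd_mul, ac_mul]; rfl
  smul_zero a := by
    have := av_add (cg a) 0 0
    rwa [add_zero, V2] at this
  smul_add a := av_add (cg a)

theorem av_cg (a : Γ) (x : V) : av (cg a) x = a • x := rfl
theorem smul_te (a : Γ) (k : Fin 3) (i j : Fin 6) :
    a • te k (du i j) = te (a.1 k) (du (a.2 i) (a.2 j)) := by
  rw [← av_cg, av_te, ac_du]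

def fW (u w : W) : Bool :=
  xr (xr (u.a && w.b) (u.b && w.a)) (xr (u.c && w.d) (u.d && w.c))
def qf (x : V) : Bool := fW x.1 x.2
def bf (x y : V) : Bool := xr (fW x.1 y.2) (fW x.2 y.1)

theorem fW_du : ∀ i j k l : Fin 6, fW (du i j) (du k l) =
    xor (xor (i == k) (i == l)) (xor (j == k) (j == l)) := by decide +kernel
theorem fW_ac (g : S6) (u w : W) : fW (ac (cd g) u) (ac (cd g) w) = fW u w := by
  obtain ⟨i, j, rfl⟩ := ex_du u
  obtain ⟨k, l, rfl⟩ := ex_du w
  have e : ∀ a b, (g a == g b) = (a == b) := fun a b => by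
    rw [Bool.eq_iff_iff]; simp
  simp only [ac_du, fW_du, e]
theorem qf_smul (a : Γ) (x : V) : qf (a • x) = qf x := by
  have t : ∀ (g : S3) (u w : W), qf (te (g 0) u + te (g 1) w) = fW u w := by decide +kernel
  rw [te_split x, smul_add, ← av_cg, ← av_cg, av_te, av_te, t, fW_ac]
  exact (t 1 _ _).symm
theorem fW_addl : ∀ u v w : W, fW (u + v) w = xor (fW u w) (fW v w) := by decide +kernel
theorem fW_addr : ∀ u v w : W, fW w (u + v) = xor (fW w u) (fW w v) := by decide +kernel
theorem fW_comm : ∀ u v : W, fW u v = fW v u := by decide +kernel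
theorem qf_add (x y : V) : qf (x + y) = xor (xor (qf x) (qf y)) (bf x y) := by
  simp only [qf, bf, xr_eq, Prod.fst_add, Prod.snd_add, fW_addl, fW_addr, fW_comm y.1 x.2]
  generalize fW x.1 x.2 = a; generalize fW y.1 y.2 = b; generalize fW x.1 y.2 = c
  generalize fW x.2 y.1 = d
  revert a b c d; decide
theorem bf_addr (x y w : V) : bf w (x + y) = xor (bf w x) (bf w y) := by
  simp only [bf, xr_eq, Prod.fst_add, Prod.snd_add, fW_addr]
  generalize fW w.1 x.2 = a; generalize fW w.1 y.2 = b; generalize fW w.2 x.1 = c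
  generalize fW w.2 y.1 = d
  revert a b c d; decide
theorem bf_comm (x y : V) : bf x y = bf y x := by
  simp only [bf, xr_eq, fW_comm y.1 x.2, fW_comm y.2 x.1, Bool.xor_comm]
theorem bf_smul (a : Γ) (x y : V) : bf (a • x) (a • y) = bf x y := by
  have h := qf_smul a (x + y)
  rw [smul_add, qf_add, qf_add, qf_smul, qf_smul] at h
  revert h
  generalize qf x = p; generalize qf y = q; generalize bf x y = r
  generalize bf (a • x) (a • y) = s
  revert p q r s; decide

/-! ### Explicit permutations -/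

def c3 (a b c : Fin 6) : S6 := swap a b * swap b c
def mk4 (i j k l : Fin 6) : S6 :=
  let s1 := swap 0 i
  let s2 := swap (s1 1) j * s1
  let s3 := swap (s2 2) k * s2
  swap (s3 3) l * s3
theorem mk4_spec : ∀ i j k l : Fin 6, i ≠ j → i ≠ k → i ≠ l → j ≠ k → j ≠ l → k ≠ l →
    mk4 i j k l 0 = i ∧ mk4 i j k l 1 = j ∧ mk4 i j k l 2 = k ∧ mk4 i j k l 3 = l := by
  decide +kernel
theorem ex_ev {i j k l : Fin 6} (a : i ≠ j) (b : i ≠ k) (c : i ≠ l) (d : j ≠ k) (e : j ≠ l)
    (f : k ≠ l) : ∃ g : S6, Perm.sign g = 1 ∧ g 0 = i ∧ g 1 = j ∧ g 2 = k ∧ g 3 = l := by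
  obtain ⟨h0, h1, h2, h3⟩ := mk4_spec i j k l a b c d e f
  rcases Int.units_eq_one_or (Perm.sign (mk4 i j k l)) with h | h
  · exact ⟨_, h, h0, h1, h2, h3⟩
  · refine ⟨mk4 i j k l * swap 4 5, ?_, h0, h1, h2, h3⟩
    rw [map_mul, h, Perm.sign_swap (by decide)]; rfl
theorem sign_c3 {a b c : Fin 6} (h : a ≠ b) (h' : b ≠ c) : Perm.sign (c3 a b c) = 1 := by
  rw [c3, map_mul, Perm.sign_swap h, Perm.sign_swap h']; rfl

def τ0 : S6 := swap 0 1
def v0 : S6 := swap 2 3 * swap 4 5
def w0 : S6 := swap 0 1 * (swap 2 3 * swap 4 5)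
def s0 : S3 := swap 1 2
def θ0 : S3 := swap 0 1 * swap 1 2
def L45 : List (Fin 6 × Fin 6 × Fin 6 × Fin 6) :=
  [(0,1,2,3), (0,1,2,4), (0,1,2,5), (0,2,1,3), (0,2,1,4), (0,2,1,5), (0,3,1,2), (0,3,1,4),
   (0,3,1,5), (0,4,1,2), (0,4,1,3), (0,4,1,5), (0,5,1,2), (0,5,1,3), (0,5,1,4), (1,2,0,3),
   (1,2,0,4), (1,2,0,5), (1,3,0,2), (1,3,0,4), (1,3,0,5), (1,4,0,2), (1,4,0,3), (1,4,0,5),
   (1,5,0,2), (1,5,0,3), (1,5,0,4), (2,3,0,1), (2,3,0,4), (2,3,0,5), (2,4,0,1), (2,4,0,3),
   (2,4,0,5), (2,5,0,1), (2,5,0,3), (2,5,0,4), (3,4,0,1), (3,4,0,2), (3,4,0,5), (3,5,0,1),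
   (3,5,0,2), (3,5,0,4), (4,5,0,1), (4,5,0,2), (4,5,0,3)]
def LH : List S6 := L45.map fun p => mk4 p.1 p.2.1 p.2.2.1 p.2.2.2
theorem k_cls : ∀ c ∈ invc, c = idc ∨ ∃ h ∈ LH, (nfc c = 4 ∧ mc (cd h) (cd τ0) = mc c (cd h)) ∨
    (nfc c = 2 ∧ mc (cd h) (cd v0) = mc c (cd h)) ∨
    (nfc c = 0 ∧ mc (cd h) (cd w0) = mc c (cd h)) := by decide +kernel
theorem cls {g : S6} (hg : g * g = 1) : g = 1 ∨ ∃ h : S6, (nf g = 4 ∧ h * τ0 * h⁻¹ = g) ∨
    (nf g = 2 ∧ h * v0 * h⁻¹ = g) ∨ (nf g = 0 ∧ h * w0 * h⁻¹ = g) := by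
  have := k_cls _ (mem_invc hg)
  simp only [cd_eq_id, mc_cd, cd_inj, nfc_cd] at this
  simp only [mul_inv_eq_iff_eq_mul]
  exact this.imp id fun ⟨h, _, e⟩ => ⟨h, e⟩
theorem cls3 : ∀ g : S3, g * g = 1 → g = 1 ∨ ∃ h : S3, h * s0 * h⁻¹ = g := by decide +kernel

end X9
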