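import Cfsg.Agent.X9.Lin

/-! Identification of the module `Q/⟨z⟩`. -/

set_option autoImplicit false
set_option maxRecDepth 100000
set_option synthInstance.maxSize 2000
open Equiv

namespace X9
variable {U : Type*} [AddCommGroup U]

def bb (q : U → ZMod 2) (x y : U) : ZMod 2 := q (x + y) + q x + q y

structure Md (U : Type*) [AddCommGroup U] where
  H : Subgroup Γ
  a : Γ → U →+ U
  q : U → ZMod 2
  hH : ∀ {g}, Ev g → g ∈ H
  a1 : ∀ x, a 1 x = x
  am : ∀ {g h}, g ∈ H → h ∈ H → ∀ x, a g (a h x) = a (g * h) x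
  two : ∀ x : U, x + x = 0
  card : Nat.card U = 256
  Bl : ∀ x y w, bb q (x + y) w = bb q x w + bb q y w
  qi : ∀ {g}, g ∈ H → ∀ x, q (a g x) = q x
  nd : ∀ x, (∀ y, bb q x y = 0) → x = 0
  f3 : ∀ {g}, g * (g * g) = 1 → (∀ x, a g x = x) → g = 1
  nf : ∀ x, (∀ g ∈ H, a g x = x) → x = 0

def ι : S6 := swap 0 1 * swap 3 4
theorem sx : Perm.sign xx = 1 := sign_c3 (by decide) (by decide)
theorem sy : Perm.sign yy = 1 := sign_c3 (by decide) (by decide)
theorem sι : Perm.sign ι = 1 := by simp [ι]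
theorem sv : Perm.sign v0 = 1 := by simp [v0]
theorem sτ : Perm.sign τ0 = -1 := by simp [τ0]
theorem evθ : Ev θ := ev_of_cub k_ρ.2.2.2.1
def wd : List (Fin 3) → S6
  | [] => 1
  | i :: l => ![ι, yy, v0] i * wd l
def LW : List (List (Fin 3)) := [[], [0], [1], [2], [1, 0], [2, 0], [0, 1], [1, 1], [2, 1], [0, 2],
  [1, 2], [2, 1, 0], [0, 2, 0], [1, 2, 0], [2, 0, 1], [2, 1, 1], [0, 2, 1], [1, 2, 1], [1, 0, 2],
  [2, 0, 2], [1, 1, 2], [2, 1, 2], [2, 0, 2, 0], [1, 1, 2, 0]]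
theorem k_st : ∀ g : S6, g 0 = 0 → g 1 = 1 → ∃ l ∈ LW, g = wd l ∨ g = τ0 * wd l := by
  decide +kernel
theorem s_wd : ∀ l, Perm.sign (wd l) = 1
  | [] => by simp [wd]
  | i :: l => by
    rw [wd, map_mul, s_wd l]
    fin_cases i <;> simp [sι, sy, sv]
theorem ex_ev2 (i j : Fin 6) : ∃ g : S6, Perm.sign g = 1 ∧ (i ≠ j → g 0 = i ∧ g 1 = j) := by
  by_cases h : i = j
  · exact ⟨1, by simp, fun e => absurd h e⟩
  have h6 : ∀ i j : Fin 6, i ≠ j → ∃ k l, i ≠ k ∧ i ≠ l ∧ j ≠ k ∧ j ≠ l ∧ k ≠ l := by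
    decide +kernel
  obtain ⟨k, l, a, b, c, d, e⟩ := h6 i j h
  obtain ⟨g, hg, a, b, -⟩ := ex_ev h a b c d e
  exact ⟨g, hg, fun _ => ⟨a, b⟩⟩
theorem ex_ev3 {i j k : Fin 6} (a : i ≠ j) (b : i ≠ k) (c : j ≠ k) :
    ∃ g : S6, Perm.sign g = 1 ∧ g 0 = i ∧ g 1 = j ∧ g 2 = k := by
  have h6 : ∀ i j k : Fin 6, ∃ l, i ≠ l ∧ j ≠ l ∧ k ≠ l := by decide +kernel
  obtain ⟨l, d, e, f⟩ := h6 i j k
  obtain ⟨g, hg, a, b, c, -⟩ := ex_ev a b d c e f
  exact ⟨g, hg, a, b, c⟩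
noncomputable def ev (i j : Fin 6) : S6 := (ex_ev2 i j).choose
theorem s_ev (i j : Fin 6) : Perm.sign (ev i j) = 1 := (ex_ev2 i j).choose_spec.1
theorem ev01 {i j : Fin 6} (h : i ≠ j) : ev i j 0 = i ∧ ev i j 1 = j := (ex_ev2 i j).choose_spec.2 h
def LX : List Γ := [(s0, 1), (1, τ0), (s0, τ0)]
theorem k_LX : ∀ g ∈ LX, g * g = 1 ∧ (g.2 = 1 ∨ g.2 = τ0) ∧ (θ * g = g * θ ∨ θ * g = g * (θ * θ))
    ∧ ∀ h ∈ LX, g * h = h * g := by decide +kernel
theorem k_cl : ∀ u w : W, (fW u w = false ∧ (u = 0 ∨ w = 0 ∨ u = w ∨ ∃ i j : Fin 6, u = du i j ∧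
    i ≠ j ∧ ∃ k l : Fin 6, w = du k l ∧ i ≠ k ∧ i ≠ l ∧ j ≠ k ∧ j ≠ l ∧ k ≠ l)) ∨
    (fW u w = true ∧ ∃ i j : Fin 6, u = du i j ∧ i ≠ j ∧ ∃ k : Fin 6, w = du i k ∧ i ≠ k ∧ j ≠ k) := by
  decide +kernel
theorem k_σ : ∀ (s : S3) (k : Fin 3), (θ0 ^ (s k).val)⁻¹ * s * θ0 ^ k.val = 1 ∨
    (θ0 ^ (s k).val)⁻¹ * s * θ0 ^ k.val = s0 := by decide +kernel

namespace Md
variable (M : Md U)

theorem q0 : M.q 0 = 0 := by
  have := M.Bl 0 0 0
  simp only [bb, add_zero] at this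
  revert this; generalize M.q 0 = a; revert a; decide
theorem Bc (x y : U) : bb M.q x y = bb M.q y x := by rw [bb, bb, add_comm x y]; ring
theorem Br (x y w : U) : bb M.q w (x + y) = bb M.q w x + bb M.q w y := by
  rw [M.Bc, M.Bl, M.Bc x, M.Bc y]
theorem B0 (x : U) : bb M.q 0 x = 0 := by
  rw [bb, zero_add, M.q0, add_zero, CharTwo.add_self_eq_zero]
theorem Bx (x : U) : bb M.q x x = 0 := by
  rw [bb, M.two, M.q0, zero_add, CharTwo.add_self_eq_zero]
theorem Bi {g : Γ} (h : g ∈ M.H) (x y : U) : bb M.q (M.a g x) (M.a g y) = bb M.q x y := by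
  rw [bb, ← map_add, M.qi h, M.qi h, M.qi h, bb]

def A (g : S6) : U →+ U := M.a (1, g)
theorem Am {g h : S6} (hg : Perm.sign g = 1) (hh : Perm.sign h = 1) (u : U) :
    M.A g (M.A h u) = M.A (g * h) u := M.am (M.hH (ev_snd hg)) (M.hH (ev_snd hh)) u
theorem A1 (u : U) : M.A 1 u = u := M.a1 u
theorem a0 {g : Γ} (h : g ∈ M.H) {u : U} (e : M.a g u = 0) : u = 0 := by
  rw [← M.a1 u, ← inv_mul_cancel g, ← M.am (inv_mem h) h, e, map_zero]
theorem cA {h : Γ} (hh : h ∈ M.H) {g g' : S6} (hg : Perm.sign g = 1) (hg' : Perm.sign g' = 1)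
    (e : g * h.2 = h.2 * g') (u : U) : M.A g (M.a h u) = M.a h (M.A g' u) := by
  rw [A, A, M.am (M.hH (ev_snd hg)) hh, M.am hh (M.hH (ev_snd hg'))]
  congr 2
  exact Prod.ext (by simp) e
theorem AA {g h g' h' : S6} (a : Perm.sign g = 1) (b : Perm.sign h = 1) (c : Perm.sign g' = 1)
    (d : Perm.sign h' = 1) (e : g * h = g' * h') (u : U) : M.A g (M.A h u) = M.A g' (M.A h' u) := by
  rw [M.Am a b, M.Am c d, e]
theorem A3 {g : S6} (a : Perm.sign g = 1) (e : g * (g * g) = 1) (u : U) :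
    M.A g (M.A g (M.A g u)) = u := by rw [M.Am a a, M.Am (by simp [a]) a, mul_assoc, e, M.A1]
theorem X3 (u : U) : M.A xx (M.A xx (M.A xx u)) = u := M.A3 sx (by decide +kernel) u
theorem Y3 (u : U) : M.A yy (M.A yy (M.A yy u)) = u := M.A3 sy (by decide +kernel) u
theorem XY (u : U) : M.A xx (M.A yy u) = M.A yy (M.A xx u) := M.AA sx sy sy sx (by decide +kernel) u
theorem I2 (u : U) : M.A ι (M.A ι u) = u := by
  rw [M.Am sι sι, show ι * ι = 1 by decide +kernel, M.A1]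
theorem IX (u : U) : M.A ι (M.A xx u) = M.A xx (M.A xx (M.A ι u)) := by
  rw [M.Am sx sx]; exact M.AA sι sx (by simp [sx]) sι (by decide +kernel) u
theorem IY (u : U) : M.A ι (M.A yy u) = M.A yy (M.A yy (M.A ι u)) := by
  rw [M.Am sy sy]; exact M.AA sι sy (by simp [sy]) sι (by decide +kernel) u
theorem TA {g : S6} (hg : Perm.sign g = 1) (u : U) : M.a θ (M.A g u) = M.A g (M.a θ u) :=
  (M.cA (M.hH evθ) hg hg (by simp [θ]) u).symm
theorem T3 (u : U) : M.a θ (M.a θ (M.a θ u)) = u := by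
  have h := M.hH evθ
  rw [M.am h h, M.am (mul_mem h h) h, mul_assoc, k_ρ.2.2.2.1, M.a1]
theorem T1 : ¬ ∀ u, M.a θ u = u := fun h => k_ρ.2.2.2.2.1 (M.f3 k_ρ.2.2.2.1 h)

def XY0 : Prop := ∀ u, ff (M.A xx) (ff (M.A yy) u) = 0

/-- change by the outer automorphism -/
noncomputable def out : Md U where
  H := M.H.comap Ψ.toMonoidHom
  a g := M.a (Ψ g)
  q := M.q
  hH h := M.hH (ev_Ψ.2 h)
  a1 x := by rw [map_one, M.a1]
  am hg hh x := by rw [map_mul]; exact M.am hg hh x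
  two := M.two
  card := M.card
  Bl := M.Bl
  qi h := M.qi h
  nd := M.nd
  f3 h e := Ψ.injective (by
    rw [M.f3 (by rw [← map_mul, ← map_mul, h, map_one]) e, map_one])
  nf x h := M.nf x fun g hg => by
    obtain ⟨g, rfl⟩ := Ψ.surjective g
    exact h g hg

theorem xy0 : M.XY0 ∨ M.out.XY0 := by
  let κ : S6 := swap 0 3 * (swap 1 4 * swap 4 2 * swap 2 5)
  have sκ : Perm.sign κ = 1 := by simp [κ]
  refine (c1 M.two M.XY M.X3 M.Y3 M.card (T := M.a θ) (I := M.A ι) (K := M.A κ) (M.TA sx)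
    (M.TA sy) (M.TA sι) M.T3 M.IX M.IY M.I2 (M.AA sy sκ sκ sx (by decide +kernel)) (fun u => ?_)
    (fun u => M.a0 (M.hH (ev_snd sκ))) M.T1).imp id fun h u => ?_
  · rw [M.Am sy sy]; exact M.AA sx sκ sκ (by simp [sy]) (by decide +kernel) u
  · have e1 : M.out.A xx = (M.A xx).comp (M.A yy) := by
      ext v
      show M.A (ψ xx) v = _
      rw [ψ_x]; exact (M.Am sx sy v).symm
    have e2 : M.out.A yy = (M.A xx).comp ((M.A yy).comp (M.A yy)) := by
      ext v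
      show M.A (ψ yy) v = M.A xx (M.A yy (M.A yy v))
      rw [ψ_y, M.Am sy sy, M.Am sx (by simp [sy])]
    rw [e1, e2]; exact h u

structure L (d : U) : Prop where
  n : E (M.A xx) d = 0
  i : M.A ι d = d

variable {M}
theorem L.add {d e : U} (h : M.L d) (h' : M.L e) : M.L (d + e) :=
  ⟨by rw [map_add, h.n, h'.n, add_zero], by rw [map_add, h.i, h'.i]⟩
theorem L.map {d : U} (h : M.L d) {g : Γ} (hg : g ∈ M.H) (e : g.2 = 1 ∨ g.2 = τ0) :
    M.L (M.a g d) := by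
  refine ⟨?_, by rw [M.cA hg sι sι (by rcases e with e | e <;> rw [e] <;> decide +kernel), h.i]⟩
  rw [← map_zero (M.a g), ← h.n]
  rcases e with e | e
  · have := M.cA hg sx sx (by simp [e])
    simp only [E_ap, this, map_add]
  · have := M.cA (g' := xx * xx) hg sx (by simp [sx]) (by rw [e]; decide +kernel)
    simp only [E_ap, this, map_add, ← M.Am sx sx, M.X3]; abel
theorem L.mk' {p : U} (h : E (M.A xx) p = 0) : M.L (p + M.A ι p) := by
  refine ⟨?_, by rw [map_add, M.I2, add_comm]⟩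
  have : E (M.A xx) (M.A ι p) = M.A ι (E (M.A xx) p) := by
    simp only [E_ap, map_add, M.IX, M.X3]; abel
  rw [map_add, this, h, map_zero, add_zero]

noncomputable def D (M : Md U) (d : U) (i j : Fin 6) : U := if i = j then 0 else M.A (ev i j) d
theorem Dii (d : U) (i : Fin 6) : M.D d i i = 0 := if_pos rfl
theorem Dne {i j : Fin 6} (h : i ≠ j) (d : U) : M.D d i j = M.A (ev i j) d := if_neg h
theorem TD (d : U) (i j : Fin 6) : M.a θ (M.D d i j) = M.D (M.a θ d) i j := by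
  unfold D; split_ifs
  · exact map_zero _
  · exact M.TA (s_ev _ _) d
theorem Dadd (d e : U) (i j : Fin 6) : M.D (d + e) i j = M.D d i j + M.D e i j := by
  unfold D; split_ifs <;> simp
theorem D0 {i j : Fin 6} (h : i ≠ j) {d : U} (h0 : d ≠ 0) : M.D d i j ≠ 0 := fun e =>
  h0 (M.a0 (M.hH (ev_snd (s_ev i j))) ((Dne h d).symm.trans e))
theorem qD {i j : Fin 6} (h : i ≠ j) (d : U) : M.q (M.D d i j) = M.q d := by
  rw [Dne h]; exact M.qi (M.hH (ev_snd (s_ev i j))) d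

variable (hxy : M.XY0) {d : U} (h : M.L d)
include hxy h

theorem L.y : M.A yy d = d := by
  have e : ff (M.A xx) d = d := (eq_of_add M.two (by rw [← h.n, E_ap, ff, add_assoc])).symm
  have := hxy d
  rw [show ff (M.A xx) (ff (M.A yy) d) = ff (M.A yy) (ff (M.A xx) d) by
    simp only [ff, map_add, M.XY]; abel, e] at this
  have e2 := eq_of_add M.two this
  rw [← M.Y3 (M.A yy d), ← e2, ← e2, e2, ← e2, e2, M.Y3]

theorem L.same {g g' : S6} (hg : Perm.sign g = 1)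
    (e : ∃ s ∈ [1, yy, yy * yy, ι, ι * yy, ι * (yy * yy)], g' = g * s) : M.A g' d = M.A g d := by
  obtain ⟨s, hs, rfl⟩ := e
  simp only [List.mem_cons, List.not_mem_nil, or_false] at hs
  have y2 : Perm.sign (yy * yy) = 1 := by simp [sy]
  rcases hs with rfl | rfl | rfl | rfl | rfl | rfl
  · rw [mul_one]
  · rw [← M.Am hg sy, h.y hxy]
  · rw [← M.Am hg y2, ← M.Am sy sy, h.y hxy, h.y hxy]
  · rw [← M.Am hg sι, h.i]
  · rw [← M.Am hg (by simp [sy, sι]), ← M.Am sι sy, h.y hxy, h.i]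
  · rw [← M.Am hg (by simp [sy, sι]), ← M.Am sι y2, ← M.Am sy sy, h.y hxy, h.y hxy, h.i]

theorem L.k : M.A v0 d = d := by
  have rel : ∀ g k : S6, Perm.sign g = 1 → Perm.sign k = 1 →
      M.A (g * (xx * (yy * k))) d + M.A (g * (xx * (yy * (yy * k)))) d +
      (M.A (g * (xx * (xx * (yy * k)))) d + M.A (g * (xx * (xx * (yy * (yy * k))))) d) = 0 :=
    fun g k hg hk => by
      have := congrArg (M.A g) (hxy (M.A k d))
      simpa only [ff, map_add, map_zero, M.Am, map_mul, hg, hk, sx, sy, mul_one] using this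
  have s1 := sign_c3 (a := 4) (b := 2) (c := 0) (by decide) (by decide)
  have s2 := sign_c3 (a := 5) (b := 1) (c := 0) (by decide) (by decide)
  have s3 := sign_c3 (a := 3) (b := 0) (c := 1) (by decide) (by decide)
  have s4 := sign_c3 (a := 5) (b := 0) (c := 2) (by decide) (by decide)
  have rB := rel _ _ s1 s2
  have rA := rel _ _ s3 s4
  have t1 := h.n
  have t2 := congrArg (M.A v0) h.n
  simp only [E_ap, map_add, map_zero, M.Am, map_mul, sx, sv, mul_one] at t1 t2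
  rw [h.same hxy (g := xx) (g' := c3 3 0 1 * (xx * (yy * c3 5 0 2))) sx (by decide +kernel),
    h.same hxy (g := v0 * xx) (g' := c3 3 0 1 * (xx * (xx * (yy * c3 5 0 2)))) (by simp [sx, sv])
      (by decide +kernel)] at rA
  rw [h.same hxy (g := xx * xx) (g' := c3 4 2 0 * (xx * (xx * (yy * (yy * c3 5 1 0)))))
      (by simp [sx]) (by decide +kernel),
    h.same hxy (g := v0 * (xx * xx)) (g' := c3 4 2 0 * (xx * (xx * (yy * c3 5 1 0))))
      (by simp [sx, sv]) (by decide +kernel),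
    h.same hxy (g := c3 3 0 1 * (xx * (yy * (yy * c3 5 0 2))))
      (g' := c3 4 2 0 * (xx * (yy * (yy * c3 5 1 0)))) (by simp [sx, sy, s3, s4]) (by decide +kernel),
    h.same hxy (g := c3 3 0 1 * (xx * (xx * (yy * (yy * c3 5 0 2)))))
      (g' := c3 4 2 0 * (xx * (yy * c3 5 1 0))) (by simp [sx, sy, s3, s4]) (by decide +kernel)] at rB
  let _ := zm M.two
  apply eq_of_add M.two
  rw [← add_zero (0 : U), ← add_zero (0 + 0 : U), ← add_zero (0 + 0 + 0 : U)]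
  nth_rewrite 1 [← t1]
  nth_rewrite 1 [← t2]
  nth_rewrite 1 [← rA]
  rw [← rB]
  apply c2; match_scalars <;> decide

theorem L.fwd : ∀ l, M.A (wd l) d = d
  | [] => M.A1 d
  | i :: l => by
    rw [wd, ← M.Am _ (s_wd l), L.fwd l]
    · fin_cases i
      exacts [h.i, h.y hxy, h.k hxy]
    · fin_cases i
      exacts [sι, sy, sv]
theorem L.st {g : S6} (hg : Perm.sign g = 1) (h0 : g 0 = 0) (h1 : g 1 = 1) : M.A g d = d := by
  obtain ⟨l, -, rfl | rfl⟩ := k_st g h0 h1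
  · exact h.fwd hxy l
  · rw [map_mul, s_wd, sτ] at hg; exact absurd hg (by decide)
theorem L.AD0 {g : S6} (hg : Perm.sign g = 1) : M.A g d = M.D d (g 0) (g 1) := by
  have n : g 0 ≠ g 1 := g.injective.ne (by decide)
  have s : Perm.sign ((ev (g 0) (g 1))⁻¹ * g) = 1 := by simp [s_ev, hg]
  rw [Dne n]
  nth_rewrite 2 [← h.st hxy s]
  · rw [M.Am (s_ev _ _) s, mul_inv_cancel_left]
  · rw [Perm.mul_apply, Perm.inv_eq_iff_eq, (ev01 n).1]
  · rw [Perm.mul_apply, Perm.inv_eq_iff_eq, (ev01 n).2]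
theorem L.symm (i j : Fin 6) : M.D d i j = M.D d j i := by
  by_cases e : i = j
  · rw [e]
  rw [Dne e, ← h.i, M.Am (s_ev _ _) sι, h.i, h.AD0 hxy (by simp [s_ev, sι])]
  show M.D d (ev i j 1) (ev i j 0) = _
  rw [(ev01 e).1, (ev01 e).2]
theorem L.AD {g : S6} (hg : Perm.sign g = 1) (i j : Fin 6) :
    M.A g (M.D d i j) = M.D d (g i) (g j) := by
  by_cases e : i = j
  · rw [e, Dii, Dii, map_zero]
  rw [Dne e, M.Am hg (s_ev _ _), h.AD0 hxy (by simp [s_ev, hg]), Perm.mul_apply, Perm.mul_apply,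
    (ev01 e).1, (ev01 e).2]
theorem L.d01 : M.D d 0 1 = d := (h.AD0 hxy (g := 1) (by simp)).symm.trans (M.A1 d)
theorem L.tri (i j k : Fin 6) : M.D d i j + M.D d j k = M.D d i k := by
  by_cases a : i = j
  · rw [a, Dii, zero_add]
  by_cases b : j = k
  · rw [b, Dii, add_zero]
  by_cases c : i = k
  · rw [c, Dii, h.symm hxy, M.two]
  obtain ⟨g, hg, rfl, rfl, rfl⟩ := ex_ev3 a c b
  have := congrArg (M.A g) h.n
  rw [← h.d01 hxy] at this
  simp only [E_ap, map_add, map_zero, h.AD hxy sx, h.AD hxy hg] at this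
  rw [h.symm hxy (g 0) (g 2)]
  exact eq_of_add M.two this

theorem L.perm (g : S6) : M.D d (g 0) (g 1) + M.D d (g 2) (g 3) + M.D d (g 4) (g 5) =
    M.D d 0 1 + M.D d 2 3 + M.D d 4 5 := by
  have e : ∀ i j, M.D d i j = M.D d i 5 + M.D d j 5 := fun i j => by
    rw [h.symm hxy j 5, h.tri hxy]
  have := Equiv.sum_comp g fun i => M.D d i 5
  simp only [Fin.sum_univ_six] at this
  rw [e (g 0), e (g 2), e (g 4), e 0, e 2, e 4]
  simpa only [add_assoc] using this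

theorem L.aD (hf : ∀ g ∈ LX, g ∈ M.H → M.a g d = d) {g : Γ} (hg : g ∈ M.H)
    (e : g.1 = 1 ∨ g.1 = s0) (i j : Fin 6) : M.a g (M.D d i j) = M.D d (g.2 i) (g.2 j) := by
  by_cases c : i = j
  · rw [c, Dii, Dii, map_zero]
  have n : g.2 i ≠ g.2 j := g.2.injective.ne c
  have m1 := M.hH (ev_snd (s_ev i j))
  have m2 := M.hH (ev_snd (s_ev (g.2 i) (g.2 j)))
  have key : ∀ k ∈ M.H, (k.1 = 1 ∨ k.1 = s0) → k.2 0 = 0 → k.2 1 = 1 → M.a k d = d :=
    fun k hk e h0 h1 => by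
      obtain ⟨l, -, e' | e'⟩ := k_st k.2 h0 h1
      all_goals
        have mw := M.hH (ev_snd (s_wd l))
        have m := mul_mem hk (inv_mem mw)
        rw [← inv_mul_cancel_right k (1, wd l), ← M.am m mw]
        rw [show M.a (1, wd l) d = d from h.fwd hxy l]
      · rcases e with e | e
        · rw [show k * (1, wd l)⁻¹ = 1 from Prod.ext (by simp [e]) (by simp [e']), M.a1]
        · exact hf _ (by rw [show k * (1, wd l)⁻¹ = (s0, 1) from
            Prod.ext (by simp [e]) (by simp [e'])]; simp [LX]) m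
      · refine hf _ ?_ m
        rw [show k * (1, wd l)⁻¹ = (k.1, τ0) from Prod.ext (by simp) (by simp [e'])]
        rcases e with e | e <;> simp [LX, e]
  have m := mul_mem (inv_mem m2) (mul_mem hg m1)
  rw [Dne c, Dne n, A, A, M.am hg m1]
  nth_rewrite 2 [← key _ m (by simpa using e)]
  · rw [M.am m2 m, mul_inv_cancel_left]
  · simp [(ev01 c).1, Equiv.symm_apply_eq, (ev01 n).1]
  · simp [(ev01 c).2, Equiv.symm_apply_eq, (ev01 n).2]

theorem L.tab : (E (M.A yy) (M.D d 0 1) = M.D d 0 1 ∧ E (M.A yy) (M.D d 0 2) = M.D d 0 2 ∧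
    E (M.A yy) (M.D d 3 4) = 0 ∧ E (M.A yy) (M.D d 3 5) = 0 ∧ E (M.A xx) (M.D d 0 1) = 0 ∧
    E (M.A xx) (M.D d 0 2) = 0 ∧ E (M.A xx) (M.D d 3 4) = M.D d 3 4 ∧
    E (M.A xx) (M.D d 3 5) = M.D d 3 5) ∧ M.A ι (M.D d 0 1) = M.D d 0 1 ∧
    M.A ι (M.D d 0 2) = M.D d 0 1 + M.D d 0 2 ∧ M.A ι (M.D d 3 4) = M.D d 3 4 ∧
    M.A ι (M.D d 3 5) = M.D d 3 4 + M.D d 3 5 ∧ M.A xx (M.A xx (M.D d 0 1)) = M.D d 0 2 ∧
    M.A yy (M.A yy (M.D d 3 4)) = M.D d 3 5 := by
  have z : ∀ i j k, M.D d i j + M.D d j k + M.D d k i = 0 := fun i j k => by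
    rw [h.tri hxy, h.tri hxy, Dii]
  simp only [E_ap, h.AD hxy sx, h.AD hxy sy, h.AD hxy sι]
  refine ⟨⟨?_, ?_, z 3 4 5, ?_, z 0 1 2, ?_, ?_, ?_⟩, h.symm hxy 1 0, ?_, h.symm hxy 4 3, ?_,
    h.symm hxy 2 0, h.symm hxy 5 3⟩
  · exact (congrArg (· + _) (M.two _)).trans (zero_add _)
  · exact (congrArg (· + _) (M.two _)).trans (zero_add _)
  · rw [← z 3 5 4, add_right_comm]; rfl
  · rw [← z 0 2 1, add_right_comm]; rfl
  · exact (congrArg (· + _) (M.two _)).trans (zero_add _)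
  · exact (congrArg (· + _) (M.two _)).trans (zero_add _)
  · rw [h.symm hxy 0 1, h.tri hxy]; rfl
  · rw [h.symm hxy 3 4, h.tri hxy]; rfl

theorem L.sp {e : U} (h' : M.L e) (d0 : d ≠ 0) (e0 : e ≠ 0) (n : d ≠ e) (u : U) : ∃ i j k l,
    u = cb (M.D d 0 1) (M.D e 0 1) i + cb (M.D d 0 2) (M.D e 0 2) j +
      cb (M.D d 3 4) (M.D e 3 4) k + cb (M.D d 3 5) (M.D e 3 5) l := by
  have ne : ∀ i j, i ≠ j → M.D d i j ≠ M.D e i j := fun i j hij c =>
    D0 hij (fun c' => n (eq_of_add M.two c')) (by rw [Dadd, c, M.two])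
  obtain ⟨⟨a1, a2, a3, a4, a5, a6, a7, a8⟩, a9, a10, a11, a12, a13, a14⟩ := h.tab hxy
  obtain ⟨⟨b1, b2, b3, b4, b5, b6, b7, b8⟩, b9, b10, b11, b12, b13, b14⟩ := h'.tab hxy
  have t := M.two
  have t' := two' t
  let N2 := ((M.A xx).comp (M.A xx)).comp ((M.A ι + AddMonoidHom.id U).comp (E (M.A yy)))
  let N4 := ((M.A yy).comp (M.A yy)).comp ((M.A ι + AddMonoidHom.id U).comp (E (M.A xx)))
  refine span8 t M.card (E1 := E (M.A yy) + N2) (E2 := N2) (E3 := E (M.A xx) + N4) (E4 := N4)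
    ?_ ?_ ?_ ?_ u <;>
  refine ⟨D0 (by decide) d0, D0 (by decide) e0, ne _ _ (by decide), ?_, ?_, ?_, ?_, ?_, ?_, ?_,
    ?_⟩ <;>
  simp only [N2, N4, AddMonoidHom.add_apply, AddMonoidHom.comp_apply, AddMonoidHom.id_apply,
    map_zero, add_zero, add_assoc, *]

theorem L.dis {e : U} (h' : M.L e) {i j k l : Fin 6} (a : i ≠ j) (b : i ≠ k) (c : i ≠ l)
    (a' : j ≠ k) (b' : j ≠ l) (c' : k ≠ l) : bb M.q (M.D d i j) (M.D e k l) = 0 := by
  have key : ∀ {i j k l : Fin 6}, i ≠ j → i ≠ k → i ≠ l → j ≠ k → j ≠ l → k ≠ l →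
      bb M.q (M.D d i j) (M.D e k l) = bb M.q (M.D d 0 1) (M.D e 2 3) := fun a b c a' b' c' => by
    obtain ⟨g, hg, rfl, rfl, rfl, rfl⟩ := ex_ev a b c a' b' c'
    rw [← h.AD hxy hg, ← h'.AD hxy hg]
    exact M.Bi (M.hH (ev_snd hg)) _ _
  have := M.Br (M.D e 2 3) (M.D e 3 4) (M.D d 0 1)
  rw [h'.tri hxy, key (k := 2) (l := 4), key (k := 3) (l := 4), CharTwo.add_self_eq_zero] at this
  · rw [key a b c a' b' c', this]
  all_goals decide
theorem L.qd (n : M.D d 0 1 + M.D d 2 3 + M.D d 4 5 = 0) : M.q d = 0 := by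
  have := h.dis hxy h (i := 0) (j := 1) (k := 2) (l := 3) (by decide) (by decide) (by decide)
    (by decide) (by decide) (by decide)
  rwa [bb, eq_of_add M.two n, qD (by decide), qD (by decide), qD (by decide),
    CharTwo.add_self_eq_zero, zero_add] at this

omit h in
theorem ex_L : ∃ d, d ≠ 0 ∧ M.L d ∧ E (M.a θ) d = 0 := by
  by_contra hc
  push Not at hc
  let _ := zm M.two
  have Tf : ∀ d, M.L d → M.a θ d = d := fun d hd => by
    have l1 := hd.map (M.hH evθ) (Or.inl rfl)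
    have : M.a θ d + M.a θ (M.a θ d) = 0 := by
      by_contra c
      refine hc _ c (l1.add (l1.map (M.hH evθ) (Or.inl rfl))) ?_
      simp only [E_ap, map_add, M.T3]
      apply c2; match_scalars <;> decide
    have e2 := eq_of_add M.two this
    rw [← M.T3 (M.a θ d), ← e2, ← e2, e2, ← e2, e2, M.T3]
  have dec : ∀ p, E (M.A xx) p = 0 → ∃ l1 l2, M.L l1 ∧ M.L l2 ∧ p = M.A xx (M.A xx l1) + l2 :=
    fun p hp => ⟨_, _, L.mk' hp, L.mk' (p := M.A xx p) (by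
      rw [← map_zero (M.A xx), ← hp]; simp only [E_ap, map_add]), by
      rw [← add_zero p, ← hp]
      simp only [E_ap, map_add, M.IX, M.X3]
      rw [← add_zero (M.A xx (M.A xx p) + _ + _), ← M.two (M.A xx (M.A xx (M.A xx (M.A xx p))))]
      simp only [M.X3]
      apply c2; match_scalars <;> decide⟩
  have Eff : ∀ u, E (M.A xx) (ff (M.A xx) u) = 0 := fun u => by
    simp only [E_ap, ff, map_add, M.X3]
    apply c2; match_scalars <;> decide
  obtain ⟨d, hd, d0⟩ : ∃ d, M.L d ∧ d ≠ 0 := by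
    by_contra c
    push Not at c
    refine absurd (M.f3 (g := (1, xx)) (by decide +kernel) fun u => ?_) (by decide +kernel)
    obtain ⟨l1, l2, h1, h2, e⟩ := dec _ (Eff u)
    rw [c _ h1, c _ h2, map_zero, map_zero, add_zero] at e
    have e2 := eq_of_add M.two e
    show M.A xx u = u
    rw [← M.X3 (M.A xx u), ← e2, ← e2, e2, ← e2, e2, M.X3]
  have uq : ∀ e, M.L e → e = 0 ∨ e = d := fun e he => by
    by_contra c
    push Not at c
    refine M.T1 fun u => ?_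
    obtain ⟨i, j, k, l, rfl⟩ := hd.sp hxy he d0 c.1 c.2.symm u
    simp only [map_add, cb_map, TD, Tf d hd, Tf e he]
  have hf : ∀ g ∈ LX, g ∈ M.H → M.a g d = d := fun g hg m =>
    (uq _ (hd.map m (k_LX g hg).2.1)).resolve_left fun e => d0 (M.a0 m e)
  have n : M.D d 0 1 + M.D d 2 3 + M.D d 4 5 = 0 := M.nf _ fun g hg => by
    have mθ := pow_mem (M.hH evθ) (g.1 0).val
    have m := mul_mem (inv_mem mθ) hg
    have tp : ∀ (k : ℕ) i j, M.a (θ ^ k) (M.D d i j) = M.D d i j := fun k i j => by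
      induction k with
      | zero => rw [pow_zero, M.a1]
      | succ k ih => rw [pow_succ', ← M.am (M.hH evθ) (pow_mem (M.hH evθ) k), ih, TD, Tf d hd]
    have e := hd.aD hxy hf m (by simpa [θ] using k_σ g.1 0)
    rw [← mul_inv_cancel_left (θ ^ (g.1 0).val) g, ← M.am mθ m]
    simp only [map_add, e, tp]
    exact hd.perm hxy _
  have qd := hd.qd hxy n
  have b2 : bb M.q d (M.A xx (M.A xx d)) = 0 := by
    rw [← hd.d01 hxy, (hd.tab hxy).2.2.2.2.2.1, bb, hd.symm hxy 0 1, hd.tri hxy, qD (by decide),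
      qD (by decide), qD (by decide), qd]; rfl
  refine d0 (M.nd d fun y => ?_)
  have mx := M.hH (ev_snd sx)
  have e1 : bb M.q d (ff (M.A xx) y) = bb M.q d y := by
    have e : M.A xx (M.A xx d) + M.A xx d = d :=
      (eq_of_add M.two (by rw [← hd.n, E_ap]; abel)).symm
    rw [ff, M.Br]
    conv_rhs => rw [← e, M.Bl, ← M.Bi mx (M.A xx (M.A xx d)), ← M.Bi mx (M.A xx d),
      ← M.Bi mx (M.a _ (M.A xx d))]
    exact congrArg₂ _ (congrArg (bb M.q · _) (M.X3 d).symm) (congrArg (bb M.q · _) (M.X3 d).symm)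
  obtain ⟨l1, l2, h1, h2, e⟩ := dec _ (Eff y)
  rw [← e1, e, M.Br]
  rcases uq _ h1 with rfl | rfl <;> rcases uq _ h2 with rfl | rfl <;>
    simp only [map_zero, b2, M.Bx, M.Bc _ 0, M.B0, add_zero]

omit h in
theorem ex_Lf : ∀ l : List Γ, (∀ g ∈ l, g ∈ LX) → ∃ d, d ≠ 0 ∧ M.L d ∧ E (M.a θ) d = 0 ∧
    ∀ g ∈ l, g ∈ M.H → M.a g d = d
  | [], _ => by
    obtain ⟨d, a, b, c⟩ := ex_L hxy
    exact ⟨d, a, b, c, by simp⟩
  | g :: l, hl => by
    obtain ⟨d, d0, hd, hT, hf⟩ := ex_Lf l fun k hk => hl k (List.mem_cons_of_mem _ hk)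
    by_cases c : g ∈ M.H → M.a g d = d
    · exact ⟨d, d0, hd, hT, List.forall_mem_cons.2 ⟨c, hf⟩⟩
    push Not at c
    obtain ⟨m, c⟩ := c
    obtain ⟨g2, g3, g4, g5⟩ := k_LX g (hl g (List.mem_cons_self ..))
    have mθ := M.hH evθ
    refine ⟨d + M.a g d, fun e => c (eq_of_add M.two e).symm, hd.add (hd.map m g3), ?_, ?_⟩
    · have : E (M.a θ) (M.a g d) = M.a g (E (M.a θ) d) := by
        rcases g4 with e | e
        · have k : ∀ u, M.a θ (M.a g u) = M.a g (M.a θ u) := fun u => by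
            rw [M.am mθ m, M.am m mθ, e]
          simp only [E_ap, map_add, k]
        · have k : ∀ u, M.a θ (M.a g u) = M.a g (M.a θ (M.a θ u)) := fun u => by
            rw [M.am mθ m, M.am mθ mθ, M.am m (mul_mem mθ mθ), e]
          simp only [E_ap, map_add, k, M.T3]; abel
      rw [map_add, this, hT, map_zero, add_zero]
    · intro k hk mk
      rcases List.mem_cons.1 hk with rfl | hk
      · rw [map_add, M.am m m, g2, M.a1, add_comm]
      · rw [map_add, M.am mk m, ← g5 k (hl k (List.mem_cons_of_mem _ hk)), ← M.am m mk,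
          hf k hk mk]

omit hxy h in
noncomputable def φ4 (M : Md U) (d : U) : W →+ U := AddMonoidHom.mk' (fun x =>
  cond x.a (M.D d 0 1) 0 + cond x.b (M.D d 0 2) 0 +
    (cond x.c (M.D d 3 4) 0 + cond x.d (M.D d 3 5) 0)) fun x y => by
  show cond (xr x.a y.a) _ _ + cond (xr x.b y.b) _ _ +
    (cond (xr x.c y.c) _ _ + cond (xr x.d y.d) _ _) = _
  simp only [cond_xr M.two]; abel

theorem L.φd (n : M.D d 0 1 + M.D d 2 3 + M.D d 4 5 = 0) (i j : Fin 6) :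
    M.φ4 d (du i j) = M.D d i j := by
  let _ := zm M.two
  have e3 : M.D d 0 1 + M.D d 0 2 + (M.D d 3 4 + M.D d 3 5) = M.D d 0 3 := by
    rw [← h.tri hxy 0 2 3, h.symm hxy 3 4, h.tri hxy 4, ← add_zero (_ + M.D d 2 3), ← n]
    apply c2; match_scalars <;> decide
  have key : ∀ i : Fin 6, M.φ4 d (pt i) = M.D d 0 i := fun i => by
    fin_cases i
    · exact (map_zero _).trans (Dii d 0).symm
    · show M.D d 0 1 + 0 + (0 + 0) = M.D d 0 1; simp
    · show 0 + M.D d 0 2 + (0 + 0) = M.D d 0 2; simp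
    · exact e3
    · show M.D d 0 1 + M.D d 0 2 + (0 + M.D d 3 5) = M.D d 0 4
      rw [← h.tri hxy 0 3 4, ← e3]; apply c2; match_scalars <;> decide
    · show M.D d 0 1 + M.D d 0 2 + (M.D d 3 4 + 0) = M.D d 0 5
      rw [← h.tri hxy 0 3 5, ← e3]; apply c2; match_scalars <;> decide
  rw [du, map_add, key, key, h.symm hxy 0 i, h.tri hxy]

omit h in
theorem main : ∃ φ : V ≃+ U, (∀ g ∈ M.H, ∀ x, φ (g • x) = M.a g (φ x)) ∧
    ∀ x, M.q (φ x) = 0 ↔ qf x = false := by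
  obtain ⟨d, d0, h, hT, hf⟩ := ex_Lf hxy LX fun _ h => h
  have mθ := M.hH evθ
  have h' := h.map mθ (Or.inl rfl)
  have e0 : M.a θ d ≠ 0 := fun e => d0 (M.a0 mθ e)
  have sp := h.sp hxy h' d0 e0 fun e => d0 (by rw [← hT, E_fix M.two e.symm])
  have n : M.D d 0 1 + M.D d 2 3 + M.D d 4 5 = 0 := by
    obtain ⟨⟨a1, a2, a3, a4, a5, a6, -⟩, -⟩ := h.tab hxy
    obtain ⟨⟨b1, b2, b3, b4, b5, b6, -⟩, -⟩ := h'.tab hxy
    have k : ∀ u, E (M.A xx) (E (M.A yy) u) = 0 := fun u => by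
      obtain ⟨i, j, k, l, rfl⟩ := sp u
      simp only [map_add, cb_map, cb_zero, add_zero, *]
    have f : ∀ g, Perm.sign g = 1 → E (M.A g) (M.D d 0 1 + M.D d 2 3 + M.D d 4 5) =
        M.D d 0 1 + M.D d 2 3 + M.D d 4 5 := fun g hg => E_fix M.two (by
      simp only [map_add, h.AD hxy hg]; exact h.perm hxy g)
    rw [← k (M.D d 0 1 + M.D d 2 3 + M.D d 4 5), f _ sy, f _ sx]
  have n' : M.D (M.a θ d) 0 1 + M.D (M.a θ d) 2 3 + M.D (M.a θ d) 4 5 = 0 := by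
    rw [← TD, ← TD, ← TD, ← map_add, ← map_add, n, map_zero]
  let φ : V →+ U := (M.φ4 d).coprod (M.φ4 (M.a θ d))
  have φa : ∀ x : V, φ x = M.φ4 d x.1 + M.φ4 (M.a θ d) x.2 := fun _ => rfl
  have sj : Function.Surjective φ := fun u => by
    obtain ⟨i, j, k, l, rfl⟩ := sp u
    refine ⟨(⟨i.1, j.1, k.1, l.1⟩, ⟨i.2, j.2, k.2, l.2⟩), ?_⟩
    simp only [φa, φ4, AddMonoidHom.mk'_apply, cb]; abel
  have : Finite U := Nat.finite_of_card_ne_zero (by rw [M.card]; decide)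
  have bj := sj.bijective_of_nat_card_le (by rw [cardV, M.card])
  have φt : ∀ (k : Fin 3) (i j : Fin 6), φ (te k (du i j)) = M.a (θ ^ k.val) (M.D d i j) :=
    fun k i j => by
      fin_cases k
      · show M.φ4 d _ + M.φ4 _ 0 = M.a (θ ^ 0) _
        rw [map_zero, add_zero, pow_zero, M.a1]; exact h.φd hxy n i j
      · show M.φ4 d 0 + M.φ4 _ _ = M.a (θ ^ 1) _
        rw [map_zero, zero_add, pow_one, TD]; exact h'.φd hxy n' i j
      · show M.φ4 d (du i j) + M.φ4 _ (du i j) = M.a (θ ^ 2) _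
        rw [pow_two, ← M.am mθ mθ, TD, TD, h.φd hxy n, h'.φd hxy n', ← Dadd,
          eq_of_add M.two ((E_ap _ _).symm.trans hT)]
  have q4 : ∀ {e}, M.L e → M.D e 0 1 + M.D e 2 3 + M.D e 4 5 = 0 → ∀ u, M.q (M.φ4 e u) = 0 :=
    fun he ne u => by
      obtain ⟨i, j, rfl⟩ := ex_du u
      rw [he.φd hxy ne]
      by_cases c : i = j
      · rw [c, Dii, M.q0]
      · rw [qD c, he.qd hxy ne]
  have qφ : ∀ x : V, M.q (φ x) = cond (qf x) (bb M.q (M.D d 0 1) (M.D (M.a θ d) 0 2)) 0 :=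
    fun x => by
      have : M.q (φ x) = bb M.q (M.φ4 d x.1) (M.φ4 (M.a θ d) x.2) := by
        rw [bb, q4 h n, q4 h' n', add_zero, add_zero, φa]
      rw [this, qf]
      rcases k_cl x.1 x.2 with ⟨f, e | e | e | ⟨i, j, e, a, k, l, e', b, c, a', b', c'⟩⟩ |
        ⟨f, i, j, e, a, k, e', b, c⟩ <;> rw [f]
      · rw [e, map_zero, M.B0]; rfl
      · rw [e, map_zero, M.Bc, M.B0]; rfl
      · obtain ⟨i, j, e'⟩ := ex_du x.2
        rw [e, e', h.φd hxy n, h'.φd hxy n']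
        by_cases c : i = j
        · rw [c, Dii, M.B0]; rfl
        obtain ⟨g, hg, c'⟩ := ex_ev2 i j
        obtain ⟨rfl, rfl⟩ := c' c
        rw [← h.AD hxy hg, ← h'.AD hxy hg, A, M.Bi (M.hH (ev_snd hg)),
          eq_of_add M.two ((add_assoc _ _ _).symm.trans n'), M.Br, h.dis hxy h', h.dis hxy h']
        · rfl
        all_goals decide
      · rw [e, e', h.φd hxy n, h'.φd hxy n', h.dis hxy h' a b c a' b' c']; rfl
      · obtain ⟨g, hg, rfl, rfl, rfl⟩ := ex_ev3 a b c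
        rw [e, e', h.φd hxy n, h'.φd hxy n', ← h.AD hxy hg, ← h'.AD hxy hg, A,
          M.Bi (M.hH (ev_snd hg))]; rfl
  refine ⟨AddEquiv.ofBijective φ bj, fun g hg x => ?_, fun x => ?_⟩
  · have key : ∀ (k : Fin 3) (u : W), φ (g • te k u) = M.a g (φ (te k u)) := fun k u => by
      obtain ⟨i, j, rfl⟩ := ex_du u
      have m1 := pow_mem mθ (g.1 k).val
      have m2 := pow_mem mθ k.val
      have m := mul_mem (mul_mem (inv_mem m1) hg) m2
      have e := h.aD hxy hf m (by simpa [θ] using k_σ g.1 k) i j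
      rw [smul_te, φt, φt, M.am hg m2, show g * θ ^ k.val = θ ^ (g.1 k).val *
        ((θ ^ (g.1 k).val)⁻¹ * g * θ ^ k.val) by group, ← M.am m1 m, e]
      simp [θ]
    show φ _ = M.a g (φ x)
    rw [te_split x, smul_add, map_add, map_add, map_add, key, key]
  · show M.q (φ x) = 0 ↔ _
    have c : bb M.q (M.D d 0 1) (M.D (M.a θ d) 0 2) ≠ 0 := fun c => d0 (M.nd d fun y => by
      have z : ∀ u, M.q u = 0 := fun u => by
        obtain ⟨x, rfl⟩ := sj u
        rw [qφ, c]; cases qf x <;> rfl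
      rw [bb, z, z, z]; rfl)
    rw [qφ]
    cases qf x <;> simp [c]

omit hxy h in
theorem main' (M : Md U) : ∃ F : Γ ≃* Γ, (∀ a, Ev (F a) ↔ Ev a) ∧ ∃ φ : V ≃+ U,
    (∀ g, F g ∈ M.H → ∀ x, φ (g • x) = M.a (F g) (φ x)) ∧ ∀ x, M.q (φ x) = 0 ↔ qf x = false := by
  rcases M.xy0 with h | h
  · exact ⟨MulEquiv.refl _, fun _ => Iff.rfl, main h⟩
  · exact ⟨Ψ, fun _ => ev_Ψ, main h⟩

end Md
end X9
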