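import Cfsg.Agent.X9.Ck

/-! The outer automorphism of `S₆`, as the action on the six synthematic totals. -/

set_option autoImplicit false
set_option maxRecDepth 100000
open Equiv

namespace X9

def tots : List ℕ :=
  [0x4c104088021c0840c385001304000000154802b62809035804088005500002500140510a12800870802b9400400000e0159a200840d8a024051038050000254c00e1410358284a19a20953000000,
   0x5308404021c0e00814e00014c0000200a98a0101315035808404802a000001025405125050008718a010409400009400cb8280e00804c540512500300001ab0005381035894140b8286ac000000,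
   0x21a0015038010840c14e000868000040504802b013158a5000151014100000102594008a1280e004802b0409400006281252180840c04c5940098a04000013940053818a50284a252184e5000000,
   0x4c10015010230e0082318013040000200a8021d4050d8a5000150802a0000250010841511600408c021d94004000062810b8280e0090143084158a040000254c008c618a5044580b828953000000,
   0x530408838010131023180014c000040504021d6280884e804089014100000802c0841650500e004021d200b000009400d9a20013118a0208416500300001394008c6084e8941419a204e5000000,
   0x21a084041023013103850008680000001558a014050c84e808404005500000802c9400911600408d8a01200b000000e016521801311014394008380500001ab000e14084e84458252186ac000000]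
/-- the partner of `c` in the syntheme of the `i`-th total that contains the duad `a b` -/
def pa (i a b c : Fin 6) : Fin 6 :=
  Fin.ofNat 6 (ap (tots.getD i.val 0) (36 * a.val + 6 * b.val + c.val))
def RT (g : S6) (i j : Fin 6) : Prop :=
  ∀ a b c, a ≠ b → c ≠ a → c ≠ b → g (pa i a b c) = pa j (g a) (g b) (g c)
instance (g : S6) (i j : Fin 6) : Decidable (RT g i j) := by unfold RT; infer_instance

theorem RT.mul {g h : S6} {i j k : Fin 6} (hg : RT g j k) (hh : RT h i j) : RT (g * h) i k :=
  fun a b c x y w => by
    rw [Perm.mul_apply, hh a b c x y w]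
    exact hg _ _ _ (h.injective.ne x) (h.injective.ne y) (h.injective.ne w)
theorem k_rt : ∀ a b i : Fin 6, ∃ j, RT (swap a b) i j := by decide +kernel
theorem k_rt1 : ∀ i j : Fin 6, RT 1 i j → i = j := by decide +kernel
theorem rt_one (i : Fin 6) : RT 1 i i := fun _ _ _ _ _ _ => rfl
theorem ex_rt (g : S6) : ∀ i, ∃ j, RT g i j := by
  induction g using Perm.swap_induction_on with
  | one => exact fun i => ⟨i, rt_one i⟩
  | swap_mul f x y _ ih =>
    intro i
    obtain ⟨j, h⟩ := ih i
    obtain ⟨k, h'⟩ := k_rt x y j
    exact ⟨k, h'.mul h⟩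
theorem RT.uniq {g : S6} {i j k : Fin 6} (h : RT g i j) (h' : RT g i k) : j = k :=
  k_rt1 _ _ fun a b c x y w => by
    obtain ⟨a, rfl⟩ := g.surjective a
    obtain ⟨b, rfl⟩ := g.surjective b
    obtain ⟨c, rfl⟩ := g.surjective c
    have x' := mt (congrArg g) x
    have y' := mt (congrArg g) y
    have w' := mt (congrArg g) w
    exact (h a b c x' y' w').symm.trans (h' a b c x' y' w')

noncomputable def ψf (g : S6) (i : Fin 6) : Fin 6 := (ex_rt g i).choose
theorem ψf_rt (g : S6) (i : Fin 6) : RT g i (ψf g i) := (ex_rt g i).choose_spec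
noncomputable def ψh : S6 →* S6 := MonoidHom.toHomPerm
  { toFun := ψf
    map_one' := funext fun i => (ψf_rt 1 i).uniq (rt_one i)
    map_mul' := fun g h => funext fun i => (ψf_rt (g * h) i).uniq ((ψf_rt g _).mul (ψf_rt h i)) }
theorem ψh_eq {g h : S6} (e : ∀ i, RT g i (h i)) : ψh g = h :=
  Perm.ext fun i => (ψf_rt g i).uniq (e i)
theorem k_ker : ∀ g : S6, RT g 0 0 → RT g 1 1 → RT g 2 2 → RT g 3 3 → RT g 4 4 → g = 1 := by
  decide +kernel
theorem ψh_inj : Function.Injective ψh := (injective_iff_map_eq_one _).2 fun g h => by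
  have e : ∀ i, RT g i i := fun i => by
    have := ψf_rt g i
    rwa [show ψf g i = i from congrArg (fun k : S6 => k i) h] at this
  exact k_ker g (e 0) (e 1) (e 2) (e 3) (e 4)
noncomputable def ψ : S6 ≃* S6 := MulEquiv.ofBijective ψh (Finite.injective_iff_bijective.1 ψh_inj)
theorem sign_ψ (g : S6) : Perm.sign (ψ g) = Perm.sign g := by
  simpa using DFunLike.congr_fun (Perm.eq_sign_of_surjective_hom
    (s := Perm.sign.comp ψ.toMonoidHom) ((Perm.sign_surjective _).comp ψ.surjective)) g
def xx : S6 := c3 0 1 2
def yy : S6 := c3 3 4 5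
theorem ψ_x : ψ xx = xx * yy := ψh_eq (by decide +kernel)
theorem ψ_y : ψ yy = xx * (yy * yy) := ψh_eq (by decide +kernel)
noncomputable def Ψ : Γ ≃* Γ := MulEquiv.prodCongr (MulEquiv.refl S3) ψ
theorem ev_Ψ {a : Γ} : Ev (Ψ a) ↔ Ev a := and_congr Iff.rfl (by rw [← sign_ψ a.2]; rfl)

end X9
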