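import Cfsg.Agent.X9.Ck

/-! An involution `z` whose centralizer is `2^(1+8)` extended by a subgroup of `S₃ × S₆`. -/

set_option autoImplicit false
open Equiv Subgroup

namespace X9

section Card
variable {G K : Type*} [Group G] [Group K]

def imf (X : Subgroup G) (p : G → K) (h : ∀ a ∈ X, ∀ b ∈ X, p (a * b) = p a * p b) : Subgroup K :=
  (MonoidHom.mk' (fun x : X => p x) fun a b => h a a.2 b b.2).range
theorem mem_imf {X : Subgroup G} {p : G → K} {h} {k : K} : k ∈ imf X p h ↔ ∃ x ∈ X, p x = k :=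
  ⟨fun ⟨x, e⟩ => ⟨x, x.2, e⟩, fun ⟨x, hx, e⟩ => ⟨⟨x, hx⟩, e⟩⟩
theorem card_imf {X N : Subgroup G} {p : G → K} (h) (hN : ∀ x ∈ X, p x = 1 ↔ x ∈ N) :
    Nat.card X = Nat.card (X ⊓ N : Subgroup G) * Nat.card (imf X p h) := by
  set f := MonoidHom.mk' (fun x : X => p x) fun a b => h a a.2 b b.2
  have e : f.ker = (X ⊓ N).subgroupOf X := by
    ext x; simp [f, mem_subgroupOf, hN x x.2]
  rw [← f.ker.card_mul_index, index_ker, e,
    Nat.card_congr (subgroupOfEquivOfLe (inf_le_left : X ⊓ N ≤ X)).toEquiv]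
  rfl
theorem card_le_list (A : Subgroup K) (l : List K) (h : ∀ x ∈ A, x ∈ l) :
    Nat.card A ≤ l.length := by
  classical
  calc Nat.card A = (A : Set K).ncard := rfl
    _ ≤ ((l.toFinset : Finset K) : Set K).ncard :=
      Set.ncard_le_ncard (fun x hx => by simpa using h x hx) (Finset.finite_toSet _)
    _ ≤ l.length := by rw [Set.ncard_coe_finset]; exact List.toFinset_card_le l
theorem ex_not_mem (A : Subgroup K) (l : List K) (h : l.length < Nat.card A) :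
    ∃ x ∈ A, x ∉ l := by
  by_contra hc
  push Not at hc
  exact absurd (card_le_list A l hc) (by omega)
theorem comm_of_sq {A : Subgroup K} (h : ∀ a ∈ A, a * a = 1) {a b : K} (ha : a ∈ A) (hb : b ∈ A) :
    a * b = b * a := by
  have e := h _ (mul_mem ha hb)
  calc a * b = a * (a * b * (a * b)) * b := by rw [e]; simp
    _ = a * a * (b * a) * (b * b) := by group
    _ = b * a := by rw [h a ha, h b hb]; simp

theorem card_half [Finite G] {Y : Subgroup G} {t z : G}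
    (hz : ∀ q ∈ Y, Commute q z) (h : ∀ q ∈ Y, q * t * q⁻¹ = t ∨ q * t * q⁻¹ = t * z) :
    Nat.card Y ≤ 2 * Nat.card (Y ⊓ centralizer {t} : Subgroup G) := by
  have hm : ∀ a ∈ Y, ∀ b ∈ Y, t⁻¹ * (a * b * t * (a * b)⁻¹) =
      t⁻¹ * (a * t * a⁻¹) * (t⁻¹ * (b * t * b⁻¹)) := fun a ha b hb => by
    have e : a * b * t * (a * b)⁻¹ = a * (b * t * b⁻¹) * a⁻¹ := by group
    rw [e]
    rcases h b hb with e | e <;> rw [e]
    · group
    · have := (hz a ha).inv_left.eq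
      calc t⁻¹ * (a * (t * z) * a⁻¹) = t⁻¹ * (a * t * (z * a⁻¹)) := by group
        _ = _ := by rw [← this]; group
  rw [card_imf (N := centralizer {t}) (p := fun q => t⁻¹ * (q * t * q⁻¹)) hm fun x _ => by
    rw [mem_centralizer_singleton_iff, inv_mul_eq_one, eq_mul_inv_iff_mul_eq, eq_comm], mul_comm]
  refine Nat.mul_le_mul_right _ (card_le_list _ [1, z] fun x hx => ?_)
  obtain ⟨q, hq, rfl⟩ := mem_imf.1 hx
  rcases h q hq with e | e <;> simp [e]

theorem card_pow_two [Finite K] (A : Subgroup K) (h : ∀ a ∈ A, a * a * (a * a) = 1) {m n : ℕ}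
    (hK : Nat.card K = 2 ^ n * m) (hm : Nat.Coprime 2 m) : Nat.card A ≤ 2 ^ n := by
  have hp : IsPGroup 2 A := fun a => ⟨2, Subtype.ext (by
    simpa [pow_succ, mul_assoc] using h a a.2)⟩
  obtain ⟨k, hk⟩ := IsPGroup.iff_card.1 hp
  have hd := A.card_subgroup_dvd_card
  rw [hK, hk] at hd
  rw [hk]
  exact Nat.le_of_dvd (by positivity) ((hm.pow_left k).dvd_of_dvd_mul_right hd)
end Card

theorem card_S6 : Nat.card S6 = 2 ^ 4 * 45 := by
  rw [Nat.card_eq_fintype_card, Fintype.card_perm]; rfl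
theorem card_Γ : Nat.card Γ = 2 ^ 5 * 135 := by
  rw [Nat.card_prod, card_S6, Nat.card_eq_fintype_card, Fintype.card_perm]; rfl
theorem le32 (A : Subgroup Γ) (h : ∀ a ∈ A, a * a * (a * a) = 1) : Nat.card A ≤ 32 :=
  card_pow_two A h card_Γ (by norm_num)

theorem s4 (B : Subgroup S6) (h : ∀ a ∈ B, a * a = 1) (h4 : 4 < Nat.card B) :
    ∃ a ∈ B, nf a = 4 := by
  by_contra hc
  push Not at hc
  obtain ⟨a, ha, a1⟩ := ex_not_mem B [1] (by simp; omega)
  obtain ⟨b, hb, b1⟩ := ex_not_mem B [1, a] (by simp; omega)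
  obtain ⟨c, hc', c1⟩ := ex_not_mem B [1, a, b, a * b] (by simp; omega)
  simp only [List.mem_cons, List.not_mem_nil, or_false, not_or] at a1 b1 c1
  have := k_e8 _ (mem_invc (h a ha))
  simp only [ne_eq, cd_eq_id, nfc_cd] at this
  have := this a1 (hc a ha) _ (mem_invc (h b hb))
  simp only [cd_eq_id, nfc_cd, mc_cd, cd_inj] at this
  have := this b1.1 (hc b hb) b1.2 (comm_of_sq h ha hb) (hc _ (mul_mem ha hb)) _
    (mem_invc (h c hc'))
  simp only [cd_eq_id, nfc_cd, mc_cd, cd_inj] at this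
  rcases this c1.1 (hc c hc') c1.2.1 c1.2.2.1 (comm_of_sq h ha hc') (comm_of_sq h hb hc')
    c1.2.2.2 with e | e | e
  · exact hc _ (mul_mem ha hc') e
  · exact hc _ (mul_mem hb hc') e
  · exact hc _ (mul_mem (mul_mem ha hb) hc') e

theorem s8 (B : Subgroup S6) (h : ∀ a ∈ B, a * a = 1) : Nat.card B ≤ 8 := by
  have e := card_imf (X := B) (N := Perm.sign.ker) (p := Perm.sign) (fun a _ b _ => map_mul _ a b)
    fun _ _ => Iff.rfl
  have h2 := card_le_list (imf B Perm.sign fun a _ b _ => map_mul _ a b) [1, -1] fun x _ => by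
    rcases Int.units_eq_one_or x with e | e <;> simp [e]
  have h4 : Nat.card (B ⊓ Perm.sign.ker : Subgroup S6) ≤ 4 := by
    by_contra hc
    obtain ⟨a, ha, n⟩ := s4 (B ⊓ Perm.sign.ker) (fun a ha => h a ha.1) (not_le.1 hc)
    have := sign_of_nf (h a ha.1) n
    rw [MonoidHom.mem_ker.1 ha.2] at this
    exact absurd this (by decide)
  rw [e]
  exact Nat.mul_le_mul h4 h2

def sn (A : Subgroup Γ) : Subgroup S6 := imf A Prod.snd fun _ _ _ _ => rfl
theorem k2 (A : Subgroup Γ) (h : ∀ a ∈ A, a * a * (a * a) = 1) :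
    Nat.card A ≤ 2 * Nat.card (sn A) ∧
      ((∀ a ∈ A, a.2 = 1 → a = 1) → Nat.card A ≤ Nat.card (sn A)) := by
  have e := card_imf (X := A) (N := (MonoidHom.snd S3 S6).ker) (p := Prod.snd)
    (fun _ _ _ _ => rfl) fun _ _ => Iff.rfl
  rw [e]
  constructor
  · refine Nat.mul_le_mul_right _ ?_
    by_contra hc
    obtain ⟨a, ha, a1⟩ := ex_not_mem (A ⊓ (MonoidHom.snd S3 S6).ker) [1]
      (by show 1 < _; omega)
    obtain ⟨b, hb, b1⟩ := ex_not_mem (A ⊓ (MonoidHom.snd S3 S6).ker) [1, a]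
      (by show 2 < _; omega)
    simp only [List.mem_cons, List.not_mem_nil, or_false, not_or] at a1 b1
    have a2 : a.2 = 1 := ha.2
    have b2 : b.2 = 1 := hb.2
    rcases k_s3 a.1 b.1 (congrArg Prod.fst (h a ha.1)) (congrArg Prod.fst (h b hb.1))
      (congrArg Prod.fst (h _ (mul_mem ha.1 hb.1))) with e | e | e
    · exact a1 (Prod.ext e a2)
    · exact b1.1 (Prod.ext e b2)
    · exact b1.2 (Prod.ext e.symm (b2.trans a2.symm))
  · intro h1
    have := card_le_list (A ⊓ (MonoidHom.snd S3 S6).ker) [1] fun a ha => by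
      simp [h1 a ha.1 ha.2]
    calc _ ≤ 1 * Nat.card (sn A) := Nat.mul_le_mul_right _ this
      _ = _ := one_mul _
theorem sn16 (A : Subgroup Γ) (h : ∀ a ∈ A, a * a * (a * a) = 1) : Nat.card (sn A) ≤ 16 :=
  card_pow_two _ (fun a ha => by
    obtain ⟨b, hb, rfl⟩ := mem_imf.1 ha
    exact congrArg Prod.snd (h b hb)) card_S6 (by norm_num)
theorem sn_sq {A : Subgroup Γ} (h : ∀ a ∈ A, a * a = 1) : ∀ a ∈ sn A, a * a = 1 := fun a ha => by
  obtain ⟨b, hb, rfl⟩ := mem_imf.1 ha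
  exact congrArg Prod.snd (h b hb)
theorem ex_s {A : Subgroup Γ} (h : ∀ a ∈ A, a * a * (a * a) = 1)
    (hc : Nat.card (sn A) < Nat.card A) : ∃ a ∈ A, a.2 = 1 ∧ a ≠ 1 := by
  by_contra hn
  push Not at hn
  exact absurd ((k2 A h).2 hn) (by omega)
theorem s_comm {A : Subgroup Γ} (h : ∀ a ∈ A, a * a * (a * a) = 1) {a b : Γ} (ha : a ∈ A)
    (hb : b ∈ A) (a2 : a.2 = 1) : a * b = b * a := by
  refine Prod.ext ?_ (by simp [a2])
  rcases k_s3 a.1 b.1 (congrArg Prod.fst (h a ha)) (congrArg Prod.fst (h b hb))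
    (congrArg Prod.fst (h _ (mul_mem ha hb))) with e | e | e <;> simp [e]

variable {G : Type*} [Group G]

structure St (z : G) where
  Q : Subgroup G
  π : G → Γ
  ρ : G → V
  z2 : z * z = 1
  z1 : z ≠ 1
  zQ : z ∈ Q
  QM : ∀ {q}, q ∈ Q → Commute q z
  pm : ∀ {a b}, Commute a z → Commute b z → π (a * b) = π a * π b
  pk : ∀ {a}, Commute a z → (π a = 1 ↔ a ∈ Q)
  ps : ∀ {γ}, Ev γ → ∃ m, Commute m z ∧ π m = γ
  rm : ∀ {a b}, a ∈ Q → b ∈ Q → ρ (a * b) = ρ a + ρ b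
  rk : ∀ {a}, a ∈ Q → (ρ a = 0 ↔ a = 1 ∨ a = z)
  rs : ∀ v, ∃ a ∈ Q, ρ a = v
  rc : ∀ {m q}, Commute m z → q ∈ Q → ρ (m * q * m⁻¹) = π m • ρ q
  sq : ∀ {q}, q ∈ Q → (q * q = 1 ↔ qf (ρ q) = false)

namespace St
variable {z : G} (S : St z)

/-- change of coordinates -/
def tw (g : Γ) : St z where
  Q := S.Q
  π m := g * S.π m * g⁻¹
  ρ q := g • S.ρ q
  z2 := S.z2
  z1 := S.z1
  zQ := S.zQ
  QM := S.QM
  pm ha hb := by rw [S.pm ha hb]; group
  pk ha := by rw [← S.pk ha]; simp [mul_inv_eq_iff_eq_mul]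
  ps h := by
    obtain ⟨m, hm, e⟩ := S.ps (h.conj g⁻¹)
    exact ⟨m, hm, by rw [e]; group⟩
  rm ha hb := by rw [S.rm ha hb, smul_add]
  rk ha := by rw [← S.rk ha, smul_eq_zero_iff_eq]
  rs v := by
    obtain ⟨a, ha, e⟩ := S.rs (g⁻¹ • v)
    exact ⟨a, ha, by rw [e, smul_inv_smul]⟩
  rc hm hq := by rw [S.rc hm hq, conj_smul]
  sq hq := by rw [qf_smul, S.sq hq]

theorem cz {g a : G} (h : Commute a (g * z * g⁻¹)) : Commute (g⁻¹ * a * g) z := by
  have := h.eq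
  show _ = _
  calc g⁻¹ * a * g * z = g⁻¹ * (a * (g * z * g⁻¹)) * g := by group
    _ = _ := by rw [this]; group

/-- transport along conjugation -/
def cj (g : G) : St (g * z * g⁻¹) where
  Q := S.Q.comap (MulAut.conj g⁻¹).toMonoidHom
  π m := S.π (g⁻¹ * m * g)
  ρ q := S.ρ (g⁻¹ * q * g)
  z2 := by rw [show g * z * g⁻¹ * (g * z * g⁻¹) = g * (z * z) * g⁻¹ by group, S.z2]; simp
  z1 h := S.z1 (by simpa [mul_inv_eq_iff_eq_mul] using h)
  zQ := by simpa [mem_comap, mul_assoc] using S.zQ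
  QM {q} hq := by
    have := (S.QM (q := g⁻¹ * q * g) (by simpa [mem_comap] using hq)).eq
    show _ = _
    calc q * (g * z * g⁻¹) = g * (g⁻¹ * q * g * z) * g⁻¹ := by group
      _ = _ := by rw [this]; group
  pm ha hb := by rw [← S.pm (cz ha) (cz hb)]; congr 1; group
  pk ha := by rw [S.pk (cz ha)]; simp [mem_comap]
  ps h := by
    obtain ⟨m, hm, e⟩ := S.ps h
    refine ⟨g * m * g⁻¹, ?_, by rw [← e]; congr 1; group⟩
    show _ = _
    calc g * m * g⁻¹ * (g * z * g⁻¹) = g * (m * z) * g⁻¹ := by group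
      _ = _ := by rw [hm.eq]; group
  rm ha hb := by
    rw [← S.rm (by simpa [mem_comap] using ha) (by simpa [mem_comap] using hb)]; congr 1; group
  rk {a} ha := by
    rw [S.rk (by simpa [mem_comap] using ha)]
    refine or_congr ⟨fun h => ?_, fun h => by simp [h]⟩ ⟨fun h => ?_, fun h => by rw [h]; group⟩
    · rw [show a = g * (g⁻¹ * a * g) * g⁻¹ by group, h]; simp
    · rw [← h]; group
  rs v := by
    obtain ⟨a, ha, e⟩ := S.rs v
    exact ⟨g * a * g⁻¹, by simpa [mem_comap, mul_assoc] using ha, by rw [← e]; congr 1; group⟩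
  rc hm hq := by
    rw [← S.rc (cz hm) (by simpa [mem_comap] using hq)]; congr 1; group
  sq {q} hq := by
    rw [← S.sq (by simpa [mem_comap] using hq),
      show g⁻¹ * q * g * (g⁻¹ * q * g) = g⁻¹ * (q * q) * g by group]
    rw [mul_assoc, inv_mul_eq_one]; simp

theorem p1 : S.π 1 = 1 := (S.pk (Commute.one_left z)).2 S.Q.one_mem
theorem pQ {q : G} (h : q ∈ S.Q) : S.π q = 1 := (S.pk (S.QM h)).2 h
theorem pinv {a : G} (h : Commute a z) : S.π a⁻¹ = (S.π a)⁻¹ :=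
  eq_inv_of_mul_eq_one_left (by rw [← S.pm h.inv_left h, inv_mul_cancel, S.p1])
theorem pc {m a : G} (hm : Commute m z) (ha : Commute a z) :
    S.π (m * a * m⁻¹) = S.π m * S.π a * (S.π m)⁻¹ := by
  rw [S.pm (hm.mul_left ha) hm.inv_left, S.pm hm ha, S.pinv hm]
theorem nq {m q : G} (hm : Commute m z) (hq : q ∈ S.Q) : m * q * m⁻¹ ∈ S.Q := by
  rw [← S.pk ((hm.mul_left (S.QM hq)).mul_left hm.inv_left), S.pc hm (S.QM hq), S.pQ hq]; simp
theorem r1 : S.ρ 1 = 0 := (S.rk S.Q.one_mem).2 (Or.inl rfl)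
theorem rz : S.ρ z = 0 := (S.rk S.zQ).2 (Or.inr rfl)
theorem rinv {a : G} (h : a ∈ S.Q) : S.ρ a⁻¹ = S.ρ a := by
  have := S.rm h (inv_mem h)
  rw [mul_inv_cancel, S.r1] at this
  rw [← V2' (S.ρ a) (S.ρ a⁻¹), ← this, add_zero]
theorem eqr {a b : G} (ha : a ∈ S.Q) (hb : b ∈ S.Q) (e : S.ρ a = S.ρ b) : b = a ∨ b = a * z := by
  have := (S.rk (mul_mem (inv_mem ha) hb)).1 (by rw [S.rm (inv_mem ha) hb, S.rinv ha, e, V2])
  exact this.imp (fun h => (inv_mul_eq_one.1 h).symm) fun h => by rw [← h]; group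
theorem sq' {q : G} (h : q ∈ S.Q) : q * q = 1 ∨ q * q = z :=
  (S.rk (mul_mem h h)).1 (by rw [S.rm h h, V2])
theorem four {q : G} (h : q ∈ S.Q) : q * q * (q * q) = 1 := by
  rcases S.sq' h with e | e <;> simp [e, S.z2]
theorem cm' {a b : G} (ha : a ∈ S.Q) (hb : b ∈ S.Q) :
    a * b * a⁻¹ = b ∨ a * b * a⁻¹ = b * z :=
  S.eqr hb (S.nq (S.QM ha) hb) (by rw [S.rc (S.QM ha) hb, S.pQ ha, one_smul])
theorem ne_mul_z (S : St z) (a : G) : a * z ≠ a := fun h => S.z1 (by simpa using h)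
theorem cm {a b : G} (ha : a ∈ S.Q) (hb : b ∈ S.Q) :
    Commute a b ↔ bf (S.ρ a) (S.ρ b) = false := by
  have h := S.sq (mul_mem ha hb)
  rw [S.rm ha hb, qf_add] at h
  have e : a * b * (a * b) = a * a * (a⁻¹ * b * a⁻¹⁻¹) * b := by group
  have hc : Commute a b ↔ a⁻¹ * b * a⁻¹⁻¹ = b := by
    rw [inv_inv, mul_assoc, inv_mul_eq_iff_eq_mul]; exact eq_comm
  have zb := (S.QM hb).eq
  have z1 := S.z1
  have n : b * z ≠ b := S.ne_mul_z b
  have sa := S.sq ha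
  have sb := S.sq hb
  rw [e] at h
  rw [hc]
  have zz : z * z = 1 := S.z2
  have e1 : b * z * b = z * (b * b) := by rw [zb, mul_assoc]
  rcases S.cm' (inv_mem ha) hb with c | c <;> rw [c] at h ⊢ <;>
    rw [mul_assoc] at h <;> (try rw [e1] at h) <;>
    rcases S.sq' ha with x | x <;> rcases S.sq' hb with y | y <;> rw [x] at sa h <;>
    rw [y] at sb h <;> simp [z1, n, zz] at sa sb h ⊢ <;> simp_all
theorem ncm {a b : G} (ha : a ∈ S.Q) (hb : b ∈ S.Q) (h : ¬ Commute a b) :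
    a * b * a⁻¹ = b * z :=
  (S.cm' ha hb).resolve_left fun e => h (mul_inv_eq_iff_eq_mul.1 e)
theorem cjz {a : G} (ha : a ∈ S.Q) (h : S.ρ a ≠ 0) : ∃ q ∈ S.Q, q * a * q⁻¹ = a * z := by
  obtain ⟨y, hy⟩ := k_nd _ h
  obtain ⟨q, hq, rfl⟩ := S.rs y
  exact ⟨q, hq, S.ncm hq ha fun c => by simp [(S.cm ha hq).1 c.symm] at hy⟩

theorem card_ge [Finite G] {X : Subgroup G} (hX : X ≤ S.Q) (hz : z ∈ X) (F : Finset V)
    (h : ∀ v ∈ F, ∃ q ∈ X, S.ρ q = v) : 2 * F.card ≤ Nat.card X := by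
  have hm : ∀ a ∈ X, ∀ b ∈ X, Multiplicative.ofAdd (S.ρ (a * b)) =
      Multiplicative.ofAdd (S.ρ a) * Multiplicative.ofAdd (S.ρ b) := fun a ha b hb => by
    rw [S.rm (hX ha) (hX hb)]; rfl
  have o2 : orderOf z = 2 := orderOf_eq_prime (by rw [pow_two, S.z2]) S.z1
  rw [card_imf (N := zpowers z) (p := fun q => Multiplicative.ofAdd (S.ρ q)) hm fun x hx => by
    rw [ofAdd_eq_one, S.rk (hX hx)]
    refine ⟨fun e => by rcases e with rfl | rfl <;> simp, fun e => ?_⟩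
    classical
    rw [mem_zpowers_iff_mem_range_orderOf, o2] at e
    simpa [Finset.range_add_one, eq_comm, or_comm] using e]
  rw [inf_eq_right.2 (zpowers_le.2 hz), Nat.card_zpowers, o2]
  refine Nat.mul_le_mul_left _ ?_
  rw [← Nat.card_eq_finsetCard]
  refine Nat.card_le_card_of_injective (fun v => ⟨Multiplicative.ofAdd v.1, ?_⟩) ?_
  · obtain ⟨q, hq, e⟩ := h v v.2
    exact mem_imf.2 ⟨q, hq, by rw [e]⟩
  · intro a b e
    have := Subtype.ext_iff.1 e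
    exact Subtype.ext (Multiplicative.ofAdd.injective this)
theorem card_le {D : Subgroup G} (hD : D ≤ S.Q) (hz : z ∉ D) (l : List V)
    (h : ∀ q ∈ D, S.ρ q ∈ l) : Nat.card D ≤ l.length := by
  have hm : ∀ a ∈ D, ∀ b ∈ D, Multiplicative.ofAdd (S.ρ (a * b)) =
      Multiplicative.ofAdd (S.ρ a) * Multiplicative.ofAdd (S.ρ b) := fun a ha b hb => by
    rw [S.rm (hD ha) (hD hb)]; rfl
  rw [card_imf (N := ⊥) (p := fun q => Multiplicative.ofAdd (S.ρ q)) hm fun x hx => by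
    rw [ofAdd_eq_one, S.rk (hD hx), mem_bot]
    exact ⟨fun e => e.resolve_right fun e => hz (e ▸ hx), Or.inl⟩]
  rw [inf_bot_eq, card_bot, one_mul, ← List.length_map (f := Multiplicative.ofAdd)]
  refine card_le_list _ _ fun x hx => ?_
  obtain ⟨q, hq, rfl⟩ := mem_imf.1 hx
  exact List.mem_map_of_mem (h q hq)
/-- the image in `Γ` of a subgroup of the centralizer -/
def im (X : Subgroup G) (h : ∀ x ∈ X, Commute x z) : Subgroup Γ :=
  imf X S.π fun a ha b hb => S.pm (h a ha) (h b hb)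
theorem mem_im {X : Subgroup G} {h} {a : Γ} : a ∈ S.im X h ↔ ∃ x ∈ X, S.π x = a := mem_imf
theorem card_im {X : Subgroup G} (h : ∀ x ∈ X, Commute x z) :
    Nat.card X = Nat.card (X ⊓ S.Q : Subgroup G) * Nat.card (S.im X h) :=
  card_imf _ fun x hx => S.pk (h x hx)
theorem im_four {X : Subgroup G} (h : ∀ x ∈ X, Commute x z)
    (h4 : ∀ x ∈ X, x * x * (x * x) = 1) : ∀ a ∈ S.im X h, a * a * (a * a) = 1 := fun a ha => by
  obtain ⟨x, hx, rfl⟩ := S.mem_im.1 ha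
  have c := h x hx
  rw [← S.pm c c, ← S.pm (c.mul_left c) (c.mul_left c), h4 x hx, S.p1]
theorem im_two {X : Subgroup G} (h : ∀ x ∈ X, Commute x z)
    (h4 : ∀ x ∈ X, x * x = 1) : ∀ a ∈ S.im X h, a * a = 1 := fun a ha => by
  obtain ⟨x, hx, rfl⟩ := S.mem_im.1 ha
  rw [← S.pm (h x hx) (h x hx), h4 x hx, S.p1]

/-! ### An involution `t` commuting with `z` -/

section Inv
variable {t : G}

theorem p2 (t2 : t * t = 1) (tz : Commute t z) : S.π t * S.π t = 1 := by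
  rw [← S.pm tz tz, t2, S.p1]
theorem e_mem (t2 : t * t = 1) (tz : Commute t z) {r : G} (hr : r ∈ S.Q) :
    r * t * r⁻¹ * t ∈ S.Q ∧ S.ρ (r * t * r⁻¹ * t) = S.ρ r + S.π t • S.ρ r := by
  have e : r * t * r⁻¹ * t = r * (t * r⁻¹ * t⁻¹) := by
    rw [inv_eq_of_mul_eq_one_left t2]; group
  have := S.nq tz (inv_mem hr)
  rw [e]
  exact ⟨mul_mem hr this, by rw [S.rm hr this, S.rc tz (inv_mem hr), S.rinv hr]⟩
theorem fix_of_comm (tz : Commute t z) {q : G} (hq : q ∈ S.Q) (h : Commute q t) :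
    S.π t • S.ρ q = S.ρ q := by
  rw [← S.rc tz hq, ← h.eq, mul_inv_cancel_right]
theorem fix_cases (tz : Commute t z) {q : G} (hq : q ∈ S.Q) (h : S.π t • S.ρ q = S.ρ q) :
    q * t * q⁻¹ = t ∨ q * t * q⁻¹ = t * z := by
  have qz := (S.QM hq).inv_left.eq
  rcases S.eqr (S.nq tz hq) hq (by rw [S.rc tz hq, h]) with e | e
  · left
    calc q * t * q⁻¹ = t * q * t⁻¹ * t * q⁻¹ := by rw [← e]
      _ = t := by group
  · right
    calc q * t * q⁻¹ = t * q * t⁻¹ * z * t * q⁻¹ := by rw [← e]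
      _ = t * q * t⁻¹ * (z * t) * q⁻¹ := by group
      _ = t * q * (z * q⁻¹) := by rw [← tz.eq]; group
      _ = t * z := by rw [← qz]; group
theorem ex_e (t2 : t * t = 1) (tz : Commute t z) {q : G} (hq : q ∈ S.Q)
    (h : ∃ y, S.ρ q = y + S.π t • y) :
    ∃ r ∈ S.Q, q = r * t * r⁻¹ * t ∨ q = r * t * r⁻¹ * t * z := by
  obtain ⟨y, e⟩ := h
  obtain ⟨r, hr, rfl⟩ := S.rs y
  exact ⟨r, hr, S.eqr (S.e_mem t2 tz hr).1 hq (by rw [(S.e_mem t2 tz hr).2, e])⟩
theorem card_fix [Finite G] (tz : Commute t z) :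
    (Fx (S.π t)).card ≤ Nat.card (S.Q ⊓ centralizer {t} : Subgroup G) := by
  let Y : Subgroup G :=
    { carrier := {q | q ∈ S.Q ∧ S.π t • S.ρ q = S.ρ q}
      one_mem' := ⟨one_mem _, by rw [S.r1, smul_zero]⟩
      mul_mem' := fun ha hb => ⟨mul_mem ha.1 hb.1, by rw [S.rm ha.1 hb.1, smul_add, ha.2, hb.2]⟩
      inv_mem' := fun ha => ⟨inv_mem ha.1, by rw [S.rinv ha.1, ha.2]⟩ }
  have h1 := S.card_ge (X := Y) (fun _ h => h.1) ⟨S.zQ, by rw [S.rz, smul_zero]⟩ (Fx (S.π t))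
    fun v hv => by
      obtain ⟨q, hq, rfl⟩ := S.rs v
      exact ⟨q, ⟨hq, mem_Fx.1 hv⟩, rfl⟩
  have h2 := card_half (Y := Y) (t := t) (fun q hq => S.QM hq.1)
    fun q hq => S.fix_cases tz hq.1 hq.2
  have h3 := card_le_of_le (inf_le_inf_right (centralizer {t}) (show Y ≤ S.Q from fun _ h => h.1))
  omega
theorem card_fix2 [Finite G] (tz : Commute t z)
    (h : ∀ q ∈ S.Q, S.π t • S.ρ q = S.ρ q → Commute q t) :
    2 * (Fx (S.π t)).card ≤ Nat.card (S.Q ⊓ centralizer {t} : Subgroup G) :=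
  S.card_ge inf_le_left ⟨S.zQ, mem_centralizer_singleton_iff.2 tz.symm.eq⟩ _ fun v hv => by
    obtain ⟨q, hq, rfl⟩ := S.rs v
    exact ⟨q, ⟨hq, mem_centralizer_singleton_iff.2 (h q hq (mem_Fx.1 hv)).eq⟩, rfl⟩
theorem e_comm (t2 : t * t = 1) (r : G) : Commute (r * t * r⁻¹ * t) t ↔
    r * t * r⁻¹ * t * (r * t * r⁻¹ * t) = 1 := by
  have e : r * t * r⁻¹ * (r * t * r⁻¹) = 1 := by
    rw [show r * t * r⁻¹ * (r * t * r⁻¹) = r * (t * t) * r⁻¹ by group, t2]; simp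
  generalize r * t * r⁻¹ = u at e ⊢
  constructor
  · intro h
    calc u * t * (u * t) = u * (t * (u * t)) := by group
      _ = u * (u * t * t) := by rw [h.eq]
      _ = 1 := by rw [mul_assoc u t t, t2, mul_one, e]
  · intro h
    show _ = _
    calc u * t * t = u * (u * t * (u * t)) := by rw [h, mul_assoc, t2]
      _ = u * u * (t * (u * t)) := by group
      _ = _ := by rw [e, one_mul]
theorem m4_sq (t2 : t * t = 1) (tz : Commute t z) (m : M4 (S.π t)) {q : G} (hq : q ∈ S.Q)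
    (h : Commute q t) : q * q = 1 := by
  obtain ⟨r, hr, e | e⟩ := S.ex_e t2 tz hq (m _ (S.fix_of_comm tz hq h))
  · rw [e] at h ⊢; exact (e_comm t2 r).1 h
  · have c : Commute (r * t * r⁻¹ * t) t := by
      rw [show r * t * r⁻¹ * t = q * z by rw [e, mul_assoc _ z, S.z2, mul_one]]
      exact h.mul_left tz.symm
    have := (S.QM (S.e_mem t2 tz hr).1).eq
    rw [e]
    calc _ = r * t * r⁻¹ * t * (z * (r * t * r⁻¹ * t)) * z := by group
      _ = r * t * r⁻¹ * t * (r * t * r⁻¹ * t) * (z * z) := by rw [← this]; group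
      _ = 1 := by rw [(e_comm t2 r).1 c, S.z2, mul_one]
theorem isA_comm (t2 : t * t = 1) (tz : Commute t z) (m : M4 (S.π t)) (hA : IsA (S.π t)) :
    ∀ q ∈ S.Q, S.π t • S.ρ q = S.ρ q → Commute q t := fun q hq h => by
  have c : ∀ r ∈ S.Q, Commute (r * t * r⁻¹ * t) t := fun r hr => by
    rw [e_comm t2, S.sq (S.e_mem t2 tz hr).1, (S.e_mem t2 tz hr).2]; exact hA _
  obtain ⟨r, hr, rfl | rfl⟩ := S.ex_e t2 tz hq (m _ h)
  · exact c r hr
  · exact (c r hr).mul_left tz.symm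
theorem notA (t2 : t * t = 1) (tz : Commute t z) (hA : ¬ IsA (S.π t)) :
    ∃ q ∈ S.Q, q * t * q⁻¹ = t * z := by
  obtain ⟨y, hy⟩ := not_forall.1 hA
  obtain ⟨r, hr, rfl⟩ := S.rs y
  obtain ⟨h1, h2⟩ := S.e_mem t2 tz hr
  refine ⟨_, h1, (S.fix_cases tz h1 ?_).resolve_left fun e => hy ?_⟩
  · rw [h2, smul_add, ← mul_smul, S.p2 t2 tz, one_smul, add_comm]
  · rw [← h2, ← S.sq h1, ← e_comm t2]; exact mul_inv_eq_iff_eq_mul.1 e
theorem conj_e (t2 : t * t = 1) (r : G) : IsConj t (r * t * r⁻¹ * t * t) :=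
  isConj_iff.2 ⟨r, by rw [mul_assoc _ t t, t2, mul_one]⟩
theorem conj_e' (t2 : t * t = 1) (tz : Commute t z) {q q0 : G} (hq : q ∈ S.Q)
    (h0 : q0 * t * q0⁻¹ = t * z) (h : ∃ y, S.ρ q = y + S.π t • y) : IsConj t (q * t) := by
  obtain ⟨r, hr, rfl | rfl⟩ := S.ex_e t2 tz hq h
  · exact conj_e t2 r
  · refine isConj_iff.2 ⟨r * q0, ?_⟩
    have := (S.QM hr).inv_left.eq
    calc r * q0 * t * (r * q0)⁻¹ = r * (q0 * t * q0⁻¹) * r⁻¹ := by group
      _ = r * t * (z * r⁻¹) := by rw [h0]; group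
      _ = r * t * r⁻¹ * (t * t) * z := by rw [← this, t2]; group
      _ = r * t * r⁻¹ * t * (t * z) := by group
      _ = _ := by rw [tz.eq]; group
theorem pow4 {m : G} (hm : Commute m z) (h : S.π m * (S.π m * S.π m) = 1) :
    Commute (m * m * (m * m)) z ∧ S.π (m * m * (m * m)) = S.π m ∧
      m * m * (m * m) * (m * m * (m * m) * (m * m * (m * m))) = 1 := by
  have c := hm.mul_left hm
  refine ⟨c.mul_left c, ?_, ?_⟩
  · rw [S.pm c c, S.pm hm hm, mul_assoc, h, mul_one]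
  · rw [← S.four ((S.pk (hm.mul_left c)).1 (by rw [S.pm hm c, S.pm hm hm, h]))]; group
theorem lift3 (t2 : t * t = 1) (tz : Commute t z) (m : M4 (S.π t)) {γ : Γ}
    (h3 : γ * (γ * γ) = 1) (hc : γ * S.π t = S.π t * γ) :
    ∃ x, Commute x z ∧ Commute x t ∧ S.π x = γ ∧ x * (x * x) = 1 := by
  obtain ⟨x, hx, rfl⟩ := S.ps (ev_of_cub h3)
  have c := (hx.mul_left tz).mul_left hx.inv_left
  have hq : x * t * x⁻¹ * t ∈ S.Q := by
    rw [← S.pk (c.mul_left tz), S.pm c tz, S.pc hx tz, hc, mul_inv_cancel_right, S.p2 t2 tz]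
  have ti : t⁻¹ = t := inv_eq_of_mul_eq_one_left t2
  obtain ⟨r, hr, e⟩ := S.ex_e t2 tz hq (m _ (by
    rw [← S.rc tz hq, ← S.rinv hq]; congr 1
    simp only [mul_inv_rev, inv_inv, ti]
    rw [mul_assoc t, mul_assoc _ t t, t2]; group))
  have rz := (S.QM hr).inv_left
  have yz := rz.mul_left hx
  have py : S.π (r⁻¹ * x) = S.π x := by rw [S.pm rz hx, S.pQ (inv_mem hr), one_mul]
  have k : r⁻¹ * x * t * (r⁻¹ * x)⁻¹ = t ∨ r⁻¹ * x * t * (r⁻¹ * x)⁻¹ = t * z := by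
    rcases e with e | e
    · left
      calc _ = r⁻¹ * (x * t * x⁻¹) * r := by group
        _ = t := by rw [mul_right_cancel e]; group
    · right
      have e' : x * t * x⁻¹ = r * t * r⁻¹ * z := by
        rw [mul_assoc _ t z, tz.eq, ← mul_assoc] at e; exact mul_right_cancel e
      calc _ = r⁻¹ * (x * t * x⁻¹) * r := by group
        _ = t * (r⁻¹ * z) * r := by rw [e']; group
        _ = t * z := by rw [rz.eq]; group
  rw [← py] at h3 ⊢
  generalize r⁻¹ * x = y at k yz h3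
  have k2 : Commute (y * y) t := by
    apply mul_inv_eq_iff_eq_mul.1
    rw [show y * y * t * (y * y)⁻¹ = y * (y * t * y⁻¹) * y⁻¹ by group]
    rcases k with k | k
    · rw [k, k]
    · rw [k]
      calc y * (t * z) * y⁻¹ = y * t * (z * y⁻¹) := by group
        _ = y * t * y⁻¹ * z := by rw [← yz.inv_left.eq]; group
        _ = t := by rw [k, mul_assoc, S.z2, mul_one]
  obtain ⟨a, b, c⟩ := S.pow4 yz h3
  exact ⟨_, a, k2.mul_left k2, b, c⟩
end Inv

/-- lifting the stabilizer of the image of a noncentral element of `Q` -/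
theorem lifta {a : G} (ha : a ∈ S.Q) (h0 : S.ρ a ≠ 0) {γ : Γ} (h3 : γ * (γ * γ) = 1)
    (hc : γ • S.ρ a = S.ρ a) : ∃ x, Commute x z ∧ Commute x a ∧ S.π x = γ ∧ x * (x * x) = 1 := by
  obtain ⟨x, hx, rfl⟩ := S.ps (ev_of_cub h3)
  have : ∃ y, Commute y z ∧ Commute y a ∧ S.π y = S.π x := by
    rcases S.eqr ha (S.nq hx ha) (by rw [S.rc hx ha, hc]) with e | e
    · exact ⟨x, hx, mul_inv_eq_iff_eq_mul.1 e, rfl⟩
    · obtain ⟨q, hq, e'⟩ := S.cjz ha h0
      have qz := (S.QM hq).inv_left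
      refine ⟨q⁻¹ * x, qz.mul_left hx, mul_inv_eq_iff_eq_mul.1 ?_,
        by rw [S.pm qz hx, S.pQ (inv_mem hq), one_mul]⟩
      calc _ = q⁻¹ * (x * a * x⁻¹) * q := by group
        _ = a := by rw [e, ← e']; group
  obtain ⟨y, yz, ya, e⟩ := this
  rw [← e] at h3 ⊢
  obtain ⟨a, b, c⟩ := S.pow4 yz h3
  exact ⟨_, a, (ya.mul_left ya).mul_left (ya.mul_left ya), b, c⟩

/-- an involution over the `S₃` factor -/
theorem s_excl {t : G} (T : St t) (tz : Commute t z) (m : M4 (S.π t)) (hs : (S.π t).2 = 1) :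
    Nat.card (T.Q ⊓ centralizer {z} : Subgroup G) ≤ 2 * Nat.card (S.Q ⊓ T.Q : Subgroup G) := by
  have hc : ∀ x ∈ T.Q ⊓ centralizer {z}, Commute x z := fun x hx =>
    mem_centralizer_singleton_iff.1 hx.2
  have h2 : ∀ x ∈ T.Q ⊓ centralizer {z}, (S.π x).2 * (S.π x).2 = 1 := fun x hx => by
    rw [← Prod.snd_mul, ← S.pm (hc x hx) (hc x hx)]
    rcases T.sq' hx.1 with e | e <;> rw [e]
    · rw [S.p1]; rfl
    · exact hs
  have h1 : ∀ x ∈ T.Q ⊓ centralizer {z}, (S.π x).2 = 1 := fun x hx => by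
    by_contra hn
    obtain ⟨c, c3, e⟩ := k_s _ (mem_invc (h2 x hx)) (by rwa [ne_eq, cd_eq_id])
    simp only [mc_cd, ne_eq, cd_eq_id] at e
    obtain ⟨y, yz, yt, rfl, -⟩ := S.lift3 T.z2 tz m (k_T3 c c3).1
      (Prod.ext (by simp [(k_T3 c c3).2]) (by simp [hs]))
    have cx := (yz.mul_left (hc x hx)).mul_left yz.inv_left
    have := h2 _ (mul_mem hx ⟨T.nq yt hx.1, mem_centralizer_singleton_iff.2 cx.eq⟩)
    rw [S.pm (hc x hx) cx, S.pc yz (hc x hx)] at this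
    exact e this
  have h4 := S.im_four hc fun x hx => T.four hx.1
  have k := (k2 _ h4).1
  have k' := card_le_list (sn (S.im _ hc)) [1] fun a ha => by
    obtain ⟨b, hb, rfl⟩ := mem_imf.1 ha
    obtain ⟨x, hx, rfl⟩ := S.mem_im.1 hb
    simp [h1 x hx]
  have e : T.Q ⊓ centralizer {z} ⊓ S.Q = S.Q ⊓ T.Q := by
    ext x
    exact ⟨fun h => ⟨h.2, h.1.1⟩,
      fun h => ⟨⟨h.2, mem_centralizer_singleton_iff.2 (S.QM h.1).eq⟩, h.1⟩⟩
  rw [S.card_im hc, e, mul_comm]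
  exact Nat.mul_le_mul_right _ (by simp at k'; omega)

end St
end X9
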