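import Cfsg.Agent.X9.St

/-! The case that `z` is weakly closed in `Q`. -/

set_option autoImplicit false
open Equiv Subgroup

namespace X9
variable {G : Type*} [Group G]

theorem mcs {a b : G} : a ∈ centralizer ({b} : Set G) ↔ Commute a b :=
  mem_centralizer_singleton_iff

/-- two distinct commuting conjugates, neither in the extraspecial group of the other -/
structure Pr {z t : G} (S : St z) (T : St t) : Prop where
  tz : Commute t z
  tQ : t ∉ S.Q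
  zQ : z ∉ T.Q

namespace Pr
variable {z t : G} {S : St z} {T : St t}
theorem symm (h : Pr S T) : Pr T S := ⟨h.tz.symm, h.zQ, h.tQ⟩
theorem p1 (h : Pr S T) : S.π t ≠ 1 := fun e => h.tQ ((S.pk h.tz).1 e)
theorem dsq (h : Pr S T) {b : G} (hb : b ∈ S.Q ⊓ T.Q) : b * b = 1 :=
  (S.sq' hb.1).resolve_right fun e => h.zQ (e ▸ mul_mem hb.2 hb.2)
theorem cd (h : Pr S T) {q b : G} (hq : q ∈ S.Q) (c : Commute q t) (hb : b ∈ S.Q ⊓ T.Q) :
    Commute q b := by
  by_contra hc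
  have := T.nq c hb.2
  rw [S.ncm hq hb.1 hc] at this
  exact h.zQ ((T.Q.mul_mem_cancel_left hb.2).1 this)
theorem cardB (_ : Pr S T) : Nat.card (S.Q ⊓ centralizer {t} : Subgroup G) =
    Nat.card (S.Q ⊓ T.Q : Subgroup G) *
      Nat.card (T.im (S.Q ⊓ centralizer {t}) fun _ hx => mcs.1 hx.2) := by
  have e : S.Q ⊓ centralizer {t} ⊓ T.Q = S.Q ⊓ T.Q := by
    ext x
    exact ⟨fun h => ⟨h.1.1, h.2⟩, fun h => ⟨⟨h.1, mcs.2 (T.QM h.2)⟩, h.2⟩⟩
  rw [T.card_im (X := S.Q ⊓ centralizer {t}) fun _ hx => mcs.1 hx.2, e]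
end Pr

theorem e_mul {t r r' : G} (t2 : t * t = 1) (h : Commute r (r' * t * r'⁻¹ * t)) :
    IsConj t (r' * t * r'⁻¹ * t * (r * t * r⁻¹ * t) * t) := by
  refine isConj_iff.2 ⟨r * r', ?_⟩
  calc r * r' * t * (r * r')⁻¹ = r * (r' * t * r'⁻¹ * t) * t⁻¹ * r⁻¹ := by group
    _ = r' * t * r'⁻¹ * t * (r * t * r⁻¹ * (t * t)) := by
      rw [h.eq, t2, inv_eq_of_mul_eq_one_left t2]; group
    _ = _ := by group

theorem third {z : G} (S : St z) {r a b : G} (hr : r ∈ S.Q) (ha : a ∈ S.Q) (hb : b ∈ S.Q) :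
    Commute r a ∨ Commute r b ∨ Commute r (a * b) := by
  rw [S.cm hr ha, S.cm hr hb, S.cm hr (mul_mem ha hb), S.rm ha hb, bf_addr]
  cases bf (S.ρ r) (S.ρ a) <;> cases bf (S.ρ r) (S.ρ b) <;> simp

variable [Finite G] {z0 : G}

def WC (z0 : G) : Prop := ∀ t, IsConj z0 t → ∀ T : St t, ∀ a ∈ T.Q, IsConj z0 a → a = t

section
variable (W : WC z0) {z t : G} (hz : IsConj z0 z) (ht : IsConj z0 t) (S : St z) (T : St t)
include W hz ht

omit [Finite G] in
theorem WC.pr (tz : Commute t z) (n : t ≠ z) : Pr S T :=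
  ⟨tz, fun h => n (W z hz S t h ht), fun h => n (W t ht T z h hz).symm⟩

variable {S T} (h : Pr S T)
include h
omit hz h [Finite G] in
theorem WC.nc {b : G} (hb : b ∈ T.Q) (c : IsConj t (b * t)) : b = 1 := by
  simpa using W t ht T _ (mul_mem hb T.zQ) (ht.trans c)

omit hz [Finite G] in
theorem WC.dz (m : M4 (S.π t)) {b : G} (hb : b ∈ S.Q ⊓ T.Q) (b1 : b ≠ 1) :
    ∃ r ∈ S.Q, b = r * t * r⁻¹ * t * z := by
  obtain ⟨r, hr, e | e⟩ := S.ex_e T.z2 h.tz hb.1 (m _ (S.fix_of_comm h.tz hb.1 (T.QM hb.2)))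
  · exact absurd (W.nc ht hb.2 (e ▸ St.conj_e T.z2 r)) b1
  · exact ⟨r, hr, e⟩

omit hz [Finite G] in
/-- an involution of `C_Q(t)` is moved into a conjugate of `t` by a suitable element of `D` -/
theorem WC.mv (m : M4 (S.π t)) {c r : G} (hc : c ∈ S.Q ⊓ T.Q) (c1 : c ≠ 1) (hr : r ∈ S.Q)
    (k : Commute r c) : IsConj t (c * (r * t * r⁻¹ * t * z) * t) := by
  obtain ⟨r', hr', rfl⟩ := W.dz ht h m hc c1
  have k' : Commute r (r' * t * r'⁻¹ * t) := by
    have := k.mul_right (S.QM hr)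
    rwa [mul_assoc _ z z, S.z2, mul_one] at this
  have := e_mul T.z2 k'
  have e := (S.QM (S.e_mem T.z2 h.tz hr).1).eq
  rwa [show r' * t * r'⁻¹ * t * z * (r * t * r⁻¹ * t * z) =
    r' * t * r'⁻¹ * t * (r * t * r⁻¹ * t) by
      rw [e, mul_assoc _ z, ← mul_assoc z z, S.z2, one_mul]]

omit hz [Finite G] in
theorem WC.d4 (m : M4 (S.π t)) : Nat.card (S.Q ⊓ T.Q : Subgroup G) ≤ 4 := by
  by_contra hc
  obtain ⟨a, ha, a1⟩ := ex_not_mem (S.Q ⊓ T.Q) [1] (by show 1 < _; omega)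
  obtain ⟨b, hb, b1⟩ := ex_not_mem (S.Q ⊓ T.Q) [1, a] (by show 2 < _; omega)
  obtain ⟨c, hc', c1⟩ := ex_not_mem (S.Q ⊓ T.Q) [1, a, b, b * a] (by show 4 < _; omega)
  simp only [List.mem_cons, List.not_mem_nil, or_false, not_or] at a1 b1 c1
  obtain ⟨r, hr, e⟩ := W.dz ht h m ha a1
  have key : ∀ x ∈ S.Q ⊓ T.Q, x ≠ 1 → x ≠ a → ¬ Commute r x := fun x hx x1 xa k => by
    have := W.nc ht (mul_mem hx ha).2 (by rw [e]; exact W.mv ht h m hx x1 hr k)
    exact xa (mul_right_cancel (this.trans (h.dsq ha).symm))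
  have bb := h.dsq hb
  rcases third S hr hb.1 hc'.1 with k | k | k
  · exact key b hb b1.1 b1.2 k
  · exact key c hc' c1.1 c1.2.1 k
  · refine key _ (mul_mem hb hc') (fun e => c1.2.2.1 ?_) (fun e => c1.2.2.2 ?_) k
    · exact mul_left_cancel (e.trans bb.symm)
    · rw [← e, ← mul_assoc, bb, one_mul]

omit hz in
theorem WC.noS' (hs : (S.π t).2 = 1) : False := by
  have m : M4 (S.π t) := by
    rcases (types (S.p2 T.z2 h.tz) h.p1).2 with ⟨g, e⟩ | m
    · rw [← e] at hs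
      have : g.2 * τ0 * g.2⁻¹ = 1 := hs
      exact absurd (by simpa [mul_inv_eq_iff_eq_mul] using this) (by decide : τ0 ≠ 1)
    · exact m.1
  have h1 := S.s_excl T h.tz m hs
  have h2 := W.d4 ht h m
  have h3 := T.card_fix h.tz.symm
  have h4 := (types (T.p2 S.z2 h.tz.symm) h.symm.p1).1
  omega
end

variable (hS : ∀ t, IsConj z0 t → Nonempty (St t)) (W : WC z0)
include hS W

theorem WC.noS {t u : G} (ht : IsConj z0 t) (T : St t) (c : IsConj t u) (ut : Commute u t)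
    (n : u ≠ t) : (T.π u).2 ≠ 1 := fun hs => by
  obtain ⟨U⟩ := hS u (ht.trans c)
  exact W.noS' (ht.trans c) (W.pr ht (ht.trans c) T U ut n) hs

theorem WC.noS2 {t b : G} (ht : IsConj z0 t) (T : St t) (c : IsConj t (b * t)) (bt : Commute b t)
    (n : T.π b ≠ 1) : (T.π b).2 ≠ 1 := by
  have := W.noS hS ht T c (bt.mul_left (Commute.refl t)) fun e => n (by
    rw [mul_eq_right.1 e, T.p1])
  rwa [T.pm bt (Commute.refl t), T.pQ T.zQ, mul_one] at this

theorem WC.noT {z t : G} (hz : IsConj z0 z) (ht : IsConj z0 t) {S : St z} {T : St t} (h : Pr S T)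
    (hT : S.π t = rT) : False := by
  have cB := h.cardB
  set A := T.im (S.Q ⊓ centralizer {t}) fun _ hx => mcs.1 hx.2
  have a4 : ∀ a ∈ A, a * a * (a * a) = 1 := T.im_four _ fun x hx => S.four hx.1
  have a32 := le32 A a4
  have a16 := sn16 A a4
  have f64 := k_repT
  rw [← hT] at f64
  have cen : 16 < Nat.card A → ∃ b ∈ S.Q, Commute b t ∧ (T.π b).2 = 1 ∧ T.π b ≠ 1 ∧
      ∀ q ∈ S.Q, Commute q t → Commute q b := fun hc => by
    obtain ⟨a, ha, a2, a1⟩ := ex_s a4 (by omega)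
    obtain ⟨b, hb, rfl⟩ := T.mem_im.1 ha
    have bt := mcs.1 hb.2
    refine ⟨b, hb.1, bt, a2, a1, fun q hq qt => ?_⟩
    by_contra hn
    have e := s_comm a4 ha (T.mem_im.2 ⟨q, ⟨hq, mcs.2 qt⟩, rfl⟩) a2
    have e2 := T.pc qt bt
    rw [← e, mul_inv_cancel_right, S.ncm hq hb.1 hn, T.pm bt h.tz.symm, mul_eq_left] at e2
    exact h.symm.p1 e2
  have perp : ∀ b ∈ S.Q, (∀ q ∈ S.Q, S.π t • S.ρ q = S.ρ q → Commute q b) →
      S.ρ b ∈ F4 ∧ ∃ y, S.ρ b = y + S.π t • y := fun b hb hc => by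
    rw [hT] at hc ⊢
    refine k_T _ fun y hy => ?_
    obtain ⟨q, hq, rfl⟩ := S.rs y
    exact (S.cm hb hq).1 (hc q hq hy).symm
  have zD : z ∉ S.Q ⊓ T.Q := fun e => h.zQ e.2
  by_cases l : ∀ q ∈ S.Q, S.π t • S.ρ q = S.ρ q → Commute q t
  · have c2 := S.card_fix2 h.tz l
    have dF : ∀ b ∈ S.Q ⊓ T.Q, S.ρ b ∈ F4 := fun b hb =>
      (perp b hb.1 fun q hq f => h.cd hq (l q hq f) hb).1
    have d4 : Nat.card (S.Q ⊓ T.Q : Subgroup G) ≤ 4 := S.card_le inf_le_left zD F4 dF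
    obtain ⟨b, hb, bt, b2, b1, bc⟩ := cen (by nlinarith)
    have bF := (perp b hb fun q hq f => bc q hq (l q hq f)).1
    have : ∃ d ∈ S.Q ⊓ T.Q, S.ρ d = S.ρ b := by
      by_contra hn
      push Not at hn
      have := S.card_le inf_le_left zD (F4.erase (S.ρ b)) fun d hd =>
        (List.mem_erase_of_ne (hn d hd)).2 (dF d hd)
      rw [List.length_erase_of_mem bF] at this
      have e : F4.length - 1 = 3 := rfl
      nlinarith
    obtain ⟨d, hd, e⟩ := this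
    rcases S.eqr hd.1 hb e with rfl | rfl
    · exact b1 (T.pQ hd.2)
    · rw [T.pm (T.QM hd.2) h.tz.symm, T.pQ hd.2, one_mul] at b2
      exact W.noS' hz h.symm b2
  · push Not at l
    obtain ⟨q0, hq0, f0, n0⟩ := l
    have e0 := (S.fix_cases h.tz hq0 f0).resolve_left fun e => n0 (mul_inv_eq_iff_eq_mul.1 e)
    have c1 := S.card_fix h.tz
    have key : ∀ b ∈ S.Q, (∀ q ∈ S.Q, Commute q t → Commute q b) → Commute q0 b →
        IsConj t (b * t) := fun b hb bc k => by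
      refine S.conj_e' T.z2 h.tz hb e0 (perp b hb fun q hq f => ?_).2
      rcases S.fix_cases h.tz hq f with e | e
      · exact bc q hq (mul_inv_eq_iff_eq_mul.1 e)
      · have : Commute (q0⁻¹ * q) t := mul_inv_eq_iff_eq_mul.1 (by
          calc _ = q0⁻¹ * (q * t * q⁻¹) * q0 := by group
            _ = t := by rw [e, ← e0]; group)
        have := k.mul_left (bc _ (mul_mem (inv_mem hq0) hq) this)
        rwa [mul_inv_cancel_left] at this
    have nD : ∀ d ∈ S.Q ⊓ T.Q, d ≠ 1 → ¬ Commute q0 d := fun d hd d1 k =>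
      d1 (W.nc ht hd.2 (key d hd.1 (fun q hq c => h.cd hq c hd) k))
    have d2 : Nat.card (S.Q ⊓ T.Q : Subgroup G) ≤ 2 := by
      by_contra hc
      obtain ⟨a, ha, a1⟩ := ex_not_mem (S.Q ⊓ T.Q) [1] (by show 1 < _; omega)
      obtain ⟨b, hb, b1⟩ := ex_not_mem (S.Q ⊓ T.Q) [1, a] (by show 2 < _; omega)
      simp only [List.mem_cons, List.not_mem_nil, or_false, not_or] at a1 b1
      rcases third S hq0 ha.1 hb.1 with k | k | k
      · exact nD a ha a1 k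
      · exact nD b hb b1.1 k
      · exact nD _ (mul_mem ha hb) (fun e => b1.2 (mul_left_cancel (e.trans (h.dsq ha).symm))) k
    obtain ⟨b, hb, bt, b2, b1, bc⟩ := cen (by nlinarith)
    obtain ⟨d, hd, d1⟩ := ex_not_mem (S.Q ⊓ T.Q) [1] (by show 1 < _; nlinarith)
    rcases third S hq0 hb hd.1 with k | k | k
    · exact W.noS2 hS ht T (key b hb bc k) bt b1 b2
    · exact nD d hd (by simpa using d1) k
    · have e : T.π (b * d) = T.π b := by rw [T.pm bt (T.QM hd.2), T.pQ hd.2, mul_one]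
      exact W.noS2 hS ht T (key _ (mul_mem hb hd.1)
        (fun q hq c => (bc q hq c).mul_right (h.cd hq c hd)) k) (bt.mul_left (T.QM hd.2))
        (e ▸ b1) (e ▸ b2)

theorem WC.noC {z t : G} (ht : IsConj z0 t) {S : St z} {T : St t} (h : Pr S T)
    (m : M4 (S.π t)) (hA : ¬ IsA (S.π t)) : False := by
  have cB := h.cardB
  set A := T.im (S.Q ⊓ centralizer {t}) fun _ hx => mcs.1 hx.2
  have a2 : ∀ a ∈ A, a * a = 1 := T.im_two _ fun x hx => S.m4_sq T.z2 h.tz m hx.1 (mcs.1 hx.2)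
  obtain ⟨q0, -, e0⟩ := S.notA T.z2 h.tz hA
  have key : ∀ b ∈ S.Q, Commute b t → IsConj t (b * t) := fun b hb c =>
    S.conj_e' T.z2 h.tz hb e0 (m _ (S.fix_of_comm h.tz hb c))
  have d1 := card_le_list (S.Q ⊓ T.Q) [1] fun d hd => by
    simpa using W.nc ht hd.2 (key d hd.1 (T.QM hd.2))
  have c1 := S.card_fix h.tz
  have c2 := (types (S.p2 T.z2 h.tz) h.p1).1
  have c3 := s8 _ (sn_sq a2)
  obtain ⟨a, ha, b2, b1⟩ := ex_s (A := A) (fun a ha => by rw [a2 a ha, one_mul])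
    (by have : [(1 : G)].length = 1 := rfl; nlinarith)
  obtain ⟨b, hb, rfl⟩ := T.mem_im.1 ha
  exact W.noS2 hS ht T (key b hb.1 (mcs.1 hb.2)) (mcs.1 hb.2) b1 b2

theorem WC.al {z t : G} (hz : IsConj z0 z) (ht : IsConj z0 t) (S : St z) (tz : Commute t z)
    (n : t ≠ z) : M4 (S.π t) ∧ Al (S.π t) ∧ IsA (S.π t) := by
  obtain ⟨T⟩ := hS t ht
  have h := W.pr hz ht S T tz n
  rcases (types (S.p2 T.z2 h.tz) h.p1).2 with ⟨g, e⟩ | ⟨m, e | e | e⟩
  · exact (W.noT hS hz ht (S := S.tw g⁻¹) ⟨h.tz, h.tQ, h.zQ⟩ (by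
      show g⁻¹ * S.π t * g⁻¹⁻¹ = _
      rw [← e]; group)).elim
  · exact (W.noS' ht h e).elim
  · exact (W.noC hS ht h m e).elim
  · exact ⟨m, e.1, e.2.1⟩

theorem WC.false {z t : G} (hz : IsConj z0 z) (ht : IsConj z0 t) (tz : Commute t z) (n : t ≠ z) :
    False := by
  obtain ⟨S⟩ := hS z hz
  obtain ⟨T⟩ := hS t ht
  have h := W.pr hz ht S T tz n
  obtain ⟨m, -, hA⟩ := W.al hS hz ht S tz n
  have aζ := (W.al hS ht hz T tz.symm n.symm).2.1
  have cB := h.cardB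
  set A := T.im (S.Q ⊓ centralizer {t}) fun _ hx => mcs.1 hx.2
  have a2 : ∀ a ∈ A, a * a = 1 := T.im_two _ fun x hx => S.m4_sq T.z2 h.tz m hx.1 (mcs.1 hx.2)
  have a4 : ∀ a ∈ A, a * a * (a * a) = 1 := fun a ha => by rw [a2 a ha, one_mul]
  have c1 := S.card_fix2 h.tz (S.isA_comm T.z2 h.tz m hA)
  have c2 := (types (S.p2 T.z2 h.tz) h.p1).1
  have c3 := s8 _ (sn_sq a2)
  have d4 := W.d4 ht h m
  have al : ∀ b, Commute b t → IsConj t (b * t) → T.π b = 1 ∨ Al (T.π b) := fun b bt c => by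
    by_cases b1 : b = 1
    · exact Or.inl (b1 ▸ T.p1)
    have := (W.al hS ht (ht.trans c) T (bt.mul_left (Commute.refl t)) (by simpa using b1)).2.1
    rw [T.pm bt (Commute.refl t), T.pQ T.zQ, mul_one] at this
    exact Or.inr this
  have nal : ∀ a : Γ, a.2 = 1 ∨ nf a.2 = 4 → ¬ Al a := fun a ha => by
    rw [al_iff]
    rcases ha with e | e
    · rw [e, nf_one]; omega
    · omega
  have ζA : T.π z ∈ A := T.mem_im.2 ⟨z, ⟨S.zQ, mcs.2 tz.symm⟩, rfl⟩
  have dec : ∀ a ∈ A, a ≠ 1 → ¬ Al a → ∃ b ∈ S.Q, Commute b t ∧ T.π b = a ∧ ∃ r ∈ S.Q,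
      b = r * t * r⁻¹ * t * z := fun a ha a1 na => by
    obtain ⟨b, hb, rfl⟩ := T.mem_im.1 ha
    have bt := mcs.1 hb.2
    obtain ⟨r, hr, e | e⟩ := S.ex_e T.z2 tz hb.1 (m _ (S.fix_of_comm tz hb.1 bt))
    · exact ((al b bt (e ▸ St.conj_e T.z2 r)).elim a1 na).elim
    · exact ⟨b, hb.1, bt, rfl, r, hr, e⟩
  by_cases c8 : 8 < Nat.card A
  · have dz : ∀ a ∈ A, a ≠ 1 → (a.2 = 1 ∨ nf a.2 = 4) → Al (a * T.π z) := fun a ha a1 na => by
      obtain ⟨b, hb, bt, rfl, r, hr, e⟩ := dec a ha a1 (nal a na)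
      have e' : b * z = r * t * r⁻¹ * t := by rw [e, mul_assoc _ z, S.z2, mul_one]
      have := al (b * z) (bt.mul_left tz.symm) (e' ▸ St.conj_e T.z2 r)
      rw [T.pm bt tz.symm] at this
      refine this.resolve_left fun e => nal _ na ?_
      rwa [mul_right_cancel (e.trans (a2 _ ζA).symm)]
    obtain ⟨s, hs, s2, s1⟩ := ex_s a4 (by omega)
    obtain ⟨g, hg, g4⟩ := s4 _ (sn_sq a2) (by have := (k2 A a4).1; omega)
    obtain ⟨a, ha, rfl⟩ := mem_imf.1 hg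
    have n1 : ∀ x : Γ, nf x.2 = 4 → x ≠ 1 := fun x e e1 => by
      rw [e1] at e; exact absurd e (by decide)
    have g4' : nf (s * a).2 = 4 := by rw [Prod.snd_mul, s2, one_mul, g4]
    have := k_g5 _ (mem_invG (a2 s hs))
    simp only [ne_eq, cg2, cg_og] at this
    have := this s2 s1 _ (mem_invG (a2 a ha))
    simp only [nfc_cg, mg_cg, cg_inj] at this
    have := this g4 (comm_of_sq a2 hs ha) _ (mem_invG (a2 _ ζA))
    simp only [mg_cg, cg_inj, alc_cg] at this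
    exact this aζ (comm_of_sq a2 hs ζA) (comm_of_sq a2 ha ζA) (dz s hs s1 (Or.inl s2))
      (dz a ha (n1 a g4) (Or.inr g4)) (dz _ (mul_mem hs ha) (n1 _ g4') (Or.inr g4'))
  · have : ∃ a ∈ A, a ≠ 1 ∧ (a.2 = 1 ∨ nf a.2 = 4) := by
      by_cases c : Nat.card (sn A) < Nat.card A
      · obtain ⟨s, hs, s2, s1⟩ := ex_s a4 c
        exact ⟨s, hs, s1, Or.inl s2⟩
      · obtain ⟨g, hg, g4⟩ := s4 _ (sn_sq a2) (by nlinarith)
        obtain ⟨a, ha, rfl⟩ := mem_imf.1 hg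
        exact ⟨a, ha, fun e => by rw [e] at g4; exact absurd g4 (by decide), Or.inr g4⟩
    obtain ⟨a, ha, a1, na⟩ := this
    obtain ⟨b, hb, bt, rfl, r, hr, e⟩ := dec a ha a1 (nal a na)
    obtain ⟨x, hx, x1⟩ := ex_not_mem (S.Q ⊓ T.Q) [1] (by show 1 < _; nlinarith)
    obtain ⟨y, hy, y1⟩ := ex_not_mem (S.Q ⊓ T.Q) [1, x] (by show 2 < _; nlinarith)
    simp only [List.mem_cons, List.not_mem_nil, or_false, not_or] at x1 y1
    have key : ∀ c ∈ S.Q ⊓ T.Q, c ≠ 1 → ¬ Commute r c := fun c hc c1 k => by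
      have := al (c * b) ((T.QM hc.2).mul_left bt) (e ▸ W.mv ht h m hc c1 hr k)
      rw [T.pm (T.QM hc.2) bt, T.pQ hc.2, one_mul] at this
      exact this.elim a1 (nal _ na)
    rcases third S hr hx.1 hy.1 with k | k | k
    · exact key x hx x1 k
    · exact key y hy y1.1 k
    · exact key _ (mul_mem hx hy) (fun e => y1.2 (mul_left_cancel (e.trans (h.dsq hx).symm))) k

end X9
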